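import Groth.Agent.H79.KoszulRel
import Groth.Agent.H15.Koszul
import Groth.Prelude.Def_LCI2

set_option linter.style.haveILetI false
set_option linter.unusedSectionVars false
set_option autoImplicit false

/-!
# From vanishing of Koszul homology (mapping-cone model) to triviality of relations
-/

universe u
open CategoryTheory CochainComplex HomComplex Limits Groth.Agent.H12.KoszulReg
open Groth.Agent.H79.KoszulCone Groth.Agent.H79.KoszulRel Groth.Agent.H15

namespace Groth.Agent.H61.Obs

variable {A : Type u} [CommRing A]

section Cons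

variable {n : ℕ} (f : A) (g : Fin n → A)

/-- prepending a zero coordinate preserves trivial relations. -/
lemma cons_zero_mem_triv (v : Fin n → A) (hv : v ∈ triv g A) :
    (Fin.cons 0 v : Fin (n + 1) → A) ∈ triv (Fin.cons f g : Fin (n + 1) → A) A := by
  let L : (Fin n → A) →ₗ[A] (Fin (n + 1) → A) :=
    { toFun := fun v => Fin.cons 0 v
      map_add' := fun v w => by
        ext i
        refine Fin.cases ?_ (fun j => ?_) i
        · simp
        · simp
      map_smul' := fun a v => by
        ext i
        refine Fin.cases ?_ (fun j => ?_) i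
        · simp
        · simp }
  have hL : ∀ v, L v = Fin.cons 0 v := fun v => rfl
  have hsingle : ∀ (i : Fin n) (x : A), L (Pi.single i x) = Pi.single i.succ x := by
    intro i x
    ext j
    rw [hL]
    refine Fin.cases ?_ (fun j' => ?_) j
    · rw [Fin.cons_zero, Pi.single_eq_of_ne (Fin.succ_ne_zero i).symm]
    · rw [Fin.cons_succ]
      by_cases h : j' = i
      · subst h; rw [Pi.single_eq_same, Pi.single_eq_same]
      · rw [Pi.single_eq_of_ne h, Pi.single_eq_of_ne (fun h' => h (Fin.succ_injective _ h'))]
  change L v ∈ _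
  unfold triv at hv ⊢
  induction hv using Submodule.span_induction with
  | mem y hy =>
    obtain ⟨i, j, x, rfl⟩ := hy
    refine Submodule.subset_span ⟨i.succ, j.succ, x, ?_⟩
    rw [map_sub, map_smul, map_smul, hsingle, hsingle, Fin.cons_succ, Fin.cons_succ]
  | zero => rw [map_zero]; exact Submodule.zero_mem _
  | add y z _ _ hy hz => rw [map_add]; exact Submodule.add_mem _ hy hz
  | smul a y _ hy => rw [map_smul]; exact Submodule.smul_mem _ _ hy

/-- the relations between the new element and the old ones are trivial. -/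
lemma cons_neg_sum_mem_triv (a : Fin n → A) :
    (Fin.cons (-∑ i, a i * g i) (f • a) : Fin (n + 1) → A) ∈
      triv (Fin.cons f g : Fin (n + 1) → A) A := by
  classical
  have h : (Fin.cons (-∑ i, a i * g i) (f • a) : Fin (n + 1) → A) =
      ∑ i : Fin n, ((Fin.cons f g : Fin (n + 1) → A) 0 • (Pi.single i.succ (a i) : Fin (n + 1) → A) -
        (Fin.cons f g : Fin (n + 1) → A) i.succ • (Pi.single 0 (a i) : Fin (n + 1) → A)) := by
    ext j
    rw [Finset.sum_apply]
    refine Fin.cases ?_ (fun j' => ?_) j
    · rw [Fin.cons_zero, ← Finset.sum_neg_distrib]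
      refine Finset.sum_congr rfl fun i _ => ?_
      rw [Pi.sub_apply, Pi.smul_apply, Pi.smul_apply, Pi.single_eq_of_ne (Fin.succ_ne_zero i).symm,
        Pi.single_eq_same, Fin.cons_succ, smul_zero, zero_sub, smul_eq_mul, mul_comm]
    · rw [Fin.cons_succ, Pi.smul_apply, Finset.sum_eq_single j']
      · rw [Pi.sub_apply, Pi.smul_apply, Pi.smul_apply, Pi.single_eq_same,
          Pi.single_eq_of_ne (Fin.succ_ne_zero j'), Fin.cons_zero, smul_zero, sub_zero]
      · intro i _ hij
        rw [Pi.sub_apply, Pi.smul_apply, Pi.smul_apply,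
          Pi.single_eq_of_ne (fun h' => hij (Fin.succ_injective _ h').symm),
          Pi.single_eq_of_ne (Fin.succ_ne_zero j'), smul_zero, smul_zero, sub_zero]
      · intro h; exact absurd (Finset.mem_univ _) h
  rw [h]
  refine Submodule.sum_mem _ fun i _ => ?_
  exact Submodule.subset_span ⟨i.succ, 0, a i, rfl⟩

end Cons

/-- the degree `-1`, `0` part of the Koszul complex of a list, with the image of the degree `-2` part
inside the trivial relations. -/
theorem exists_rel_equiv' : ∀ (l : List A),
    ∃ (ε : (Koszul.koszul A l).X 0 ≃ₗ[A] A)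
      (η : (Koszul.koszul A l).X (-1) ≃ₗ[A] (Fin l.length → A)),
      (∀ k : (Koszul.koszul A l).X (-1),
        ε (((Koszul.koszul A l).d (-1) 0).hom k) = ∑ i, η k i * l.get i) ∧
      ∀ w : (Koszul.koszul A l).X (-2),
        η (((Koszul.koszul A l).d (-2) (-1)).hom w) ∈ triv (fun i : Fin l.length => l.get i) A := by
  intro l
  induction l with
  | nil =>
    have e : (Koszul.koszul A []).X 0 ≅ ModuleCat.of A A :=
      HomologicalComplex.singleObjXSelf (ComplexShape.up ℤ) 0 (ModuleCat.of A A)
    have hsub : Subsingleton ((Koszul.koszul A []).X (-1)) :=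
      ModuleCat.subsingleton_of_isZero (HomologicalComplex.isZero_single_obj_X
        (ComplexShape.up ℤ) 0 (ModuleCat.of A A) (-1) (by norm_num))
    have hemp : IsEmpty (Fin ([] : List A).length) := by
      rw [List.length_nil]; infer_instance
    refine ⟨e.toLinearEquiv, LinearEquiv.ofSubsingleton _ _, ?_, ?_⟩
    · intro k
      have hk : k = 0 := Subsingleton.elim _ _
      rw [hk, map_zero, map_zero]
      exact (Finset.sum_of_isEmpty _).symm
    · intro w
      have hz : ∀ x : Fin ([] : List A).length → A, x = 0 :=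
        fun x => funext fun i => (hemp.false i).elim
      have hmem : ∀ x : Fin ([] : List A).length → A,
          x ∈ triv (fun i : Fin ([] : List A).length => ([] : List A).get i) A := by
        intro x
        rw [hz x]
        exact Submodule.zero_mem _
      exact hmem _
  | cons f fs ih =>
    obtain ⟨ε, η, h, htriv⟩ := ih
    let K := Koszul.koszul A fs
    let φ : K ⟶ K := f • 𝟙 K
    have hsub : Subsingleton (K.X 1) :=
      ModuleCat.subsingleton_of_isZero (isZero_X_of_pos fs 1 one_pos)
    have hinj : Function.Injective (sndL φ 0) := by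
      intro a b hab
      exact ext' φ 0 1 (by norm_num) a b (Subsingleton.elim _ _) hab
    have hsurj : Function.Surjective (sndL φ 0) := fun p => ⟨inrL φ 0 p, sndL_inrL φ 0 p⟩
    let ε' : (mappingCone φ).X 0 ≃ₗ[A] A :=
      (LinearEquiv.ofBijective (sndL φ 0) ⟨hinj, hsurj⟩).trans ε
    have hε' : ∀ k, ε' k = ε (sndL φ 0 k) := fun k => rfl
    let η' : (mappingCone φ).X (-1) ≃ₗ[A] (Fin (fs.length + 1) → A) :=
      (coneEquiv φ (-1) 0 (by norm_num)).trans
        ((ε.prodCongr η).trans (Fin.consLinearEquiv A (fun _ : Fin (fs.length + 1) => A)))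
    have hη'0 : ∀ k, η' k 0 = ε (fstL φ (-1) 0 (by norm_num) k) := fun k => rfl
    have hη'S : ∀ k (i : Fin fs.length), η' k i.succ = η (sndL φ (-1) k) i := fun k i => rfl
    have key : ∀ k : (mappingCone φ).X (-1),
        ε' (((mappingCone φ).d (-1) 0).hom k) = ∑ i, η' k i * (f :: fs).get i := by
      intro k
      rw [hε', sndL_d φ (-1) 0 (by norm_num), map_add, h, smul_id_f_apply, map_smul,
        Fin.sum_univ_succ, hη'0]
      congr 1
      · rw [smul_eq_mul, mul_comm]; rfl
    refine ⟨ε', η', key, ?_⟩
    intro w
    let u := fstL φ (-2) (-1) (by norm_num) w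
    let v := sndL φ (-2) w
    have h1 : fstL φ (-1) 0 (by norm_num) (((mappingCone φ).d (-2) (-1)).hom w) =
        -(K.d (-1) 0).hom u := fstL_d φ (-2) (-1) 0 (by norm_num) (by norm_num) w
    have h2 : sndL φ (-1) (((mappingCone φ).d (-2) (-1)).hom w) =
        f • u + (K.d (-2) (-1)).hom v := by
      rw [sndL_d φ (-2) (-1) (by norm_num), smul_id_f_apply]
    have hdec : η' (((mappingCone φ).d (-2) (-1)).hom w) =
        (Fin.cons (-∑ i, η u i * fs.get i) (f • η u) : Fin (fs.length + 1) → A) +
          (Fin.cons 0 (η ((K.d (-2) (-1)).hom v)) : Fin (fs.length + 1) → A) := by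
      ext j
      refine Fin.cases ?_ (fun j' => ?_) j
      · rw [hη'0, h1, map_neg, h]
        simp only [Pi.add_apply, Fin.cons_zero, add_zero]
      · rw [hη'S, h2, map_add, map_smul]
        simp only [Pi.add_apply, Fin.cons_succ]
    have hget : (fun i : Fin (f :: fs).length => (f :: fs).get i) =
        (Fin.cons f (fun i : Fin fs.length => fs.get i) : Fin (fs.length + 1) → A) := by
      ext j
      refine Fin.cases ?_ (fun j' => ?_) j
      · rfl
      · rfl
    change η' (((mappingCone φ).d (-2) (-1)).hom w) ∈
      triv (fun i : Fin (f :: fs).length => (f :: fs).get i) A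
    rw [hdec, hget]
    exact Submodule.add_mem _ (cons_neg_sum_mem_triv f _ (η u))
      (cons_zero_mem_triv f _ _ (htriv v))

/-- **Bridge.** A Koszul-regular sequence (vanishing of the homology of the Koszul complex outside
degree `0`) has only trivial relations. -/
theorem koszulH1Zero_of_isKoszulRegularSeq (l : List A) (h : LCI.IsKoszulRegularSeq A l) :
    CInt.KoszulH1Zero (fun i : Fin l.length => l.get i) A := by
  rw [koszulH1Zero_iff]
  intro m hm
  rw [LinearMap.mem_ker, sig_apply] at hm
  obtain ⟨ε, η, hη, htriv⟩ := exists_rel_equiv' l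
  let k := η.symm m
  have hk : ((Koszul.koszul A l).d (-1) 0).hom k = 0 := by
    apply ε.injective
    rw [hη, map_zero, η.apply_symm_apply, ← hm]
    refine Finset.sum_congr rfl fun i _ => ?_
    rw [smul_eq_mul, mul_comm]
  have hker : k ∈ LinearMap.ker ((Koszul.koszul A l).d (-1) 0).hom := hk
  rw [← range_eq_ker_of_isZero_homology' _ (-2) (-1) 0 (by norm_num) (by norm_num)
    (h (-1) (by norm_num))] at hker
  obtain ⟨w, hw⟩ := hker
  have h1 := htriv w
  rw [hw, η.apply_symm_apply] at h1
  exact h1

end Groth.Agent.H61.Obs
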