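import Mathlib
import Groth.Agent.H27.Tor1

set_option linter.style.haveILetI false
set_option linter.unusedSectionVars false
set_option autoImplicit false

/-!
# Flatness across a square-zero principal thickening
-/

namespace Groth.Agent.H61.Obs

universe u

open TensorProduct Groth.Agent.H27.Tor1

section FlatLift

variable {C' C : Type u} [CommRing C'] [CommRing C] (p : C' →+* C)
  {E B : Type u} [AddCommGroup E] [Module C' E] [AddCommGroup B] [Module C B] [Module C' B]

/-- every element of `(ker p) ⊗ E` is a pure tensor `t ⊗ e` when `ker p = (t)`. -/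
lemma exists_tmul_eq {t : C'} (ht : RingHom.ker p = Ideal.span {t})
    (htker : t ∈ RingHom.ker p) (x : ↥(RingHom.ker p) ⊗[C'] E) :
    ∃ e : E, x = (⟨t, htker⟩ : ↥(RingHom.ker p)) ⊗ₜ[C'] e := by
  induction x using TensorProduct.induction_on with
  | zero => exact ⟨0, (TensorProduct.tmul_zero _ _).symm⟩
  | tmul j e =>
    have hj : (j : C') ∈ Ideal.span {t} := by rw [← ht]; exact j.2
    rw [Ideal.mem_span_singleton'] at hj
    obtain ⟨d, hd⟩ := hj
    refine ⟨d • e, ?_⟩
    rw [TensorProduct.tmul_smul, TensorProduct.smul_tmul']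
    congr 1
    apply Subtype.ext
    rw [Submodule.coe_smul, smul_eq_mul]
    exact hd.symm
  | add x y hx hy =>
    obtain ⟨e₁, rfl⟩ := hx
    obtain ⟨e₂, rfl⟩ := hy
    exact ⟨e₁ + e₂, (TensorProduct.tmul_add _ _ _).symm⟩

/-- **Flatness across a square-zero principal thickening.** -/
theorem flat_of_small (hp : Function.Surjective p) {t : C'} (ht : RingHom.ker p = Ideal.span {t})
    (𝔞 : Ideal C') (h𝔞 : ∀ a ∈ 𝔞, a * t = 0) (ht𝔞 : t ∈ 𝔞)
    (hB : ∀ (c : C') (b : B), c • b = p c • b) [Module.Flat C B]
    (q : E →ₗ[C'] B) (hq : Function.Surjective q)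
    (hker : ∀ e : E, q e = 0 → ∃ e' : E, e = t • e')
    (hann : ∀ e : E, t • e = 0 → e ∈ 𝔞 • (⊤ : Submodule C' E)) :
    Module.Flat C' E := by
  have htker : t ∈ RingHom.ker p := by rw [ht]; exact Ideal.mem_span_singleton_self t
  have htt : t * t = 0 := h𝔞 t ht𝔞
  -- nilpotence
  have hnil : IsNilpotent (RingHom.ker p) := by
    refine ⟨2, ?_⟩
    rw [ht, pow_two, Ideal.span_singleton_mul_span_singleton, htt]
    exact Ideal.span_singleton_eq_bot.mpr rfl
  -- the Tor condition
  have hT : Tor1Zero C' (C' ⧸ RingHom.ker p) E := by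
    rw [tor1Zero_quotient_iff]
    rw [injective_iff_map_eq_zero]
    intro x hx
    obtain ⟨e, rfl⟩ := exists_tmul_eq p ht htker x
    have h1 : t • e = 0 := by
      have h2 := congrArg (TensorProduct.lid C' E) hx
      rw [LinearMap.rTensor_tmul, map_zero] at h2
      exact h2
    have h3 := hann e h1
    refine Submodule.smul_induction_on h3 ?_ ?_
    · intro a ha g _
      rw [TensorProduct.tmul_smul, TensorProduct.smul_tmul']
      have : a • (⟨t, htker⟩ : ↥(RingHom.ker p)) = 0 := by
        apply Subtype.ext
        rw [Submodule.coe_smul, smul_eq_mul]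
        exact h𝔞 a ha
      rw [this, TensorProduct.zero_tmul]
    · intro x y hx hy
      rw [TensorProduct.tmul_add, hx, hy, add_zero]
  -- flatness of the reduction
  let Q := C' ⧸ RingHom.ker p
  let pb : Q ≃+* C := RingHom.quotientKerEquivOfSurjective hp
  have hpb : ∀ c : C', pb (Ideal.Quotient.mk _ c) = p c := fun c =>
    RingHom.quotientKerEquivOfSurjective_apply_mk hp c
  letI algQC : Algebra Q C := pb.toRingHom.toAlgebra
  letI modQB : Module Q B := Module.compHom B pb.toRingHom
  haveI towQCB : IsScalarTower Q C B := IsScalarTower.of_compHom Q C B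
  haveI towC'QB : IsScalarTower C' Q B := by
    refine ⟨fun c x b => ?_⟩
    obtain ⟨x', rfl⟩ := Ideal.Quotient.mk_surjective x
    change pb (c • Ideal.Quotient.mk _ x') • b = c • (pb (Ideal.Quotient.mk _ x') • b)
    rw [Algebra.smul_def, map_mul, hB, mul_smul]
    congr 1
  haveI flatQC : Module.Flat Q C := by
    let e : C ≃ₗ[Q] Q :=
      { toFun := pb.symm
        map_add' := map_add _
        map_smul' := fun x c => by
          change pb.symm (pb x * c) = x * pb.symm c
          rw [map_mul, RingEquiv.symm_apply_apply]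
        invFun := pb
        left_inv := pb.apply_symm_apply
        right_inv := pb.symm_apply_apply }
    exact Module.Flat.of_linearEquiv e
  haveI flatQB : Module.Flat Q B := Module.Flat.trans Q C B
  haveI : Module.Flat Q (Q ⊗[C'] E) := by
    let f : Q ⊗[C'] E →ₗ[Q] B := LinearMap.liftBaseChange Q q
    have hf : ∀ (x : Q) (e : E), f (x ⊗ₜ e) = x • q e := fun x e =>
      LinearMap.liftBaseChange_tmul _ _ _ _
    have hone : ∀ z : Q ⊗[C'] E, ∃ e : E, z = (1 : Q) ⊗ₜ[C'] e := by
      intro z
      induction z using TensorProduct.induction_on with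
      | zero => exact ⟨0, (TensorProduct.tmul_zero _ _).symm⟩
      | tmul x e =>
        obtain ⟨c, rfl⟩ := Ideal.Quotient.mk_surjective x
        refine ⟨c • e, ?_⟩
        rw [TensorProduct.tmul_smul, TensorProduct.smul_tmul']
        congr 1
        rw [Algebra.smul_def, mul_one]
        rfl
      | add x y hx hy =>
        obtain ⟨e₁, rfl⟩ := hx
        obtain ⟨e₂, rfl⟩ := hy
        exact ⟨e₁ + e₂, (TensorProduct.tmul_add _ _ _).symm⟩
    have hbij : Function.Bijective f := by
      constructor
      · rw [injective_iff_map_eq_zero]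
        intro z hz
        obtain ⟨e, rfl⟩ := hone z
        rw [hf, one_smul] at hz
        obtain ⟨e', rfl⟩ := hker e hz
        rw [TensorProduct.tmul_smul, TensorProduct.smul_tmul']
        have : t • (1 : Q) = 0 := by
          rw [Algebra.smul_def, mul_one]
          exact Ideal.Quotient.eq_zero_iff_mem.mpr htker
        rw [this, TensorProduct.zero_tmul]
      · intro b
        obtain ⟨e, rfl⟩ := hq b
        exact ⟨(1 : Q) ⊗ₜ e, by rw [hf, one_smul]⟩
    exact Module.Flat.of_linearEquiv (LinearEquiv.ofBijective f hbij)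
  exact flat_of_isNilpotent_of_tor1Zero (RingHom.ker p) hnil hT

end FlatLift

end Groth.Agent.H61.Obs
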