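import Groth.Agent.H61.Obs.Pres
import Groth.Agent.H12.FlatExact

set_option linter.style.haveILetI false
set_option linter.unusedSectionVars false
set_option autoImplicit false

/-!
# Second-order flatness: `m' I' ∩ t R' ⊆ t · ker τ`
-/

namespace Groth.Agent.H61.Obs

universe u

open ArtFun ArtFun.Art TensorProduct CategoryTheory
open scoped Pointwise

variable {Λ : Type u} {k : Type u} [CommRing Λ] [Field k] [Algebra Λ k] {C' C : Art Λ k}
  {p : C' ⟶ C}
  {B : Type u} [CommRing B] [Algebra C B] [Algebra C' B]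
  {B₀ : Type u} [CommRing B₀] [Algebra k B₀] {π : B →+* B₀}

/-- products `m' R' · I'` as explicit finite sums. -/
lemma exists_sum_of_mem_mul (x : (P' C' B).toExtension.Ring)
    (hx : x ∈ (IsLocalRing.maximalIdeal C').map (cst C' B) * (P' C' B).toExtension.ker) :
    ∃ (n : ℕ) (a : Fin n → C') (y : Fin n → (P' C' B).toExtension.Ring),
      (∀ j, a j ∈ IsLocalRing.maximalIdeal C') ∧ (∀ j, y j ∈ (P' C' B).toExtension.ker) ∧
        x = ∑ j, cst C' B (a j) * y j := by
  have h1 : (IsLocalRing.maximalIdeal C').map (cst C' B) * (P' C' B).toExtension.ker =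
      Ideal.span ((cst C' B '' (IsLocalRing.maximalIdeal C' : Set C')) *
        ((P' C' B).toExtension.ker : Set (P' C' B).toExtension.Ring)) := by
    rw [← Ideal.span_mul_span', Ideal.span_eq]
    rfl
  rw [h1] at hx
  change x ∈ Submodule.span _ _ at hx
  rw [Submodule.mem_span_set'] at hx
  obtain ⟨n, f, g, hsum⟩ := hx
  have hg : ∀ i, ∃ (a : C') (y : (P' C' B).toExtension.Ring), a ∈ IsLocalRing.maximalIdeal C' ∧
      y ∈ (P' C' B).toExtension.ker ∧ ((g i : _) : (P' C' B).toExtension.Ring) = cst C' B a * y := by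
    intro i
    obtain ⟨m, ⟨a, ha, rfl⟩, y, hy, hmy⟩ := Set.mem_mul.mp (g i).2
    exact ⟨a, y, ha, hy, hmy.symm⟩
  choose a y ha hy hgy using hg
  refine ⟨n, a, fun i => f i * y i, ha, fun i => Ideal.mul_mem_left _ _ (hy i), ?_⟩
  rw [← hsum]
  refine Finset.sum_congr rfl fun i _ => ?_
  rw [hgy i, smul_eq_mul]
  ring

omit [Algebra C' B] in
lemma map_res_eq_zero_of_C_mul_eq_zero {t : C'} (ht0 : t ≠ 0)
    (G : MvPolynomial B C') (h : (MvPolynomial.C t : MvPolynomial B C') * G = 0) :
    MvPolynomial.map (C'.res : C' →+* k) G = 0 := by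
  apply MvPolynomial.ext
  intro m
  rw [MvPolynomial.coeff_map, MvPolynomial.coeff_zero]
  have h1 : t * MvPolynomial.coeff m G = 0 := by
    have h2 := congrArg (MvPolynomial.coeff m) h
    rw [MvPolynomial.coeff_C_mul, MvPolynomial.coeff_zero] at h2
    exact h2
  by_contra hne
  have hu : IsUnit (MvPolynomial.coeff m G) := by
    by_contra hnu
    apply hne
    exact (mem_maximalIdeal_iff C' _).mp ((IsLocalRing.mem_maximalIdeal _).mpr hnu)
  exact ht0 ((hu.mul_left_eq_zero).mp h1)

/-- the annihilator of `t` in `R'` reduces to zero. -/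
lemma red_eq_zero_of_cst_mul_eq_zero (hπ : Function.Surjective π) {t : C'} (ht0 : t ≠ 0)
    (G : (P' C' B).toExtension.Ring) (h : cst C' B t * G = 0) : red k π hπ G = 0 :=
  map_res_eq_zero_of_C_mul_eq_zero ht0 G h

section RC

variable (p) (B)

/-- reduction of coefficients `C'[x_b] → C[x_b]`. -/
noncomputable def pr : (P' C' B).toExtension.Ring →+* MvPolynomial B C :=
  (MvPolynomial.map (p.toAlgHom : C' →+* C) : MvPolynomial B C' →+* MvPolynomial B C)

/-- evaluation `C[x_b] → B`. -/
noncomputable def evC (C : Art Λ k) (B : Type u) [CommRing B] [Algebra C B] :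
    MvPolynomial B C →ₐ[C] B := MvPolynomial.aeval id

variable {p} {B}

lemma pr_cst (c : C') : pr p B (cst C' B c) = MvPolynomial.C (p.toAlgHom c) :=
  MvPolynomial.map_C _ c

lemma pr_var (b : B) : pr p B (var C' b) = MvPolynomial.X b :=
  MvPolynomial.map_X _ b

lemma pr_surjective (hp : Function.Surjective p) : Function.Surjective (pr p B) :=
  MvPolynomial.map_surjective _ hp

lemma ker_pr : RingHom.ker (pr p B) = (RingHom.ker p.toAlgHom).map (cst C' B) :=
  MvPolynomial.ker_map _

lemma evC_pr (S : Setup p π) (g : (P' C' B).toExtension.Ring) :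
    evC C B (pr p B g) = algebraMap (P' C' B).toExtension.Ring B g := by
  have h : ((evC C B : MvPolynomial B C →+* B)).comp (pr p B) =
      algebraMap (P' C' B).toExtension.Ring B := by
    apply ringHom_ext'
    · intro c
      change evC C B (pr p B (cst C' B c)) = algebraMap (P' C' B).toExtension.Ring B (cst C' B c)
      rw [pr_cst, S.algebraMap_cst, S.hB]
      exact MvPolynomial.aeval_C _ _
    · intro b
      change evC C B (pr p B (var C' b)) = algebraMap (P' C' B).toExtension.Ring B (var C' b)
      rw [pr_var, S.algebraMap_var]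
      exact MvPolynomial.aeval_X _ b
  exact DFunLike.congr_fun h g

lemma evC_surjective : Function.Surjective (evC C B) := fun b =>
  ⟨MvPolynomial.X b, MvPolynomial.aeval_X _ b⟩

lemma flat_ker_evC (S : Setup p π) : Module.Flat C (LinearMap.ker (evC C B).toLinearMap) := by
  haveI := S.flat
  exact Groth.Agent.H12.flat_of_exact_left (LinearMap.ker (evC C B).toLinearMap).subtype
    (evC C B).toLinearMap (Submodule.injective_subtype _) evC_surjective
    (LinearMap.exact_subtype_ker_map _)

end RC

namespace Setup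

variable (S : Setup p π)
include S

/-- (β): an element of `m' R' · I'` of the form `t G` has `τ(G) = 0`. -/
theorem tau_eq_zero_of_mem_mul {t : C'} (ht : RingHom.ker p.toAlgHom = Ideal.span {t}) (ht0 : t ≠ 0)
    (G : (P' C' B).toExtension.Ring)
    (hG : cst C' B t * G ∈
      (IsLocalRing.maximalIdeal C').map (cst C' B) * (P' C' B).toExtension.ker) :
    π (algebraMap (P' C' B).toExtension.Ring B G) = 0 := by
  haveI := flat_ker_evC S
  obtain ⟨n, a, y, ha, hy, hsum⟩ := exists_sum_of_mem_mul _ hG
  have htker : t ∈ RingHom.ker p.toAlgHom := by rw [ht]; exact Ideal.mem_span_singleton_self t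
  -- the images in the kernel of `C[x_b] → B`
  have hy' : ∀ j, pr p B (y j) ∈ LinearMap.ker (evC C B).toLinearMap := by
    intro j
    rw [LinearMap.mem_ker]
    change evC C B (pr p B (y j)) = 0
    rw [evC_pr S]
    exact hy j
  let yb : Fin n → LinearMap.ker (evC C B).toLinearMap := fun j => ⟨pr p B (y j), hy' j⟩
  have hrel : ∑ j, p.toAlgHom (a j) • yb j = 0 := by
    apply Subtype.ext
    rw [Submodule.coe_sum]
    change ∑ j, p.toAlgHom (a j) • pr p B (y j) = 0
    have h1 : pr p B (cst C' B t * G) = 0 := by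
      rw [map_mul, pr_cst, (RingHom.mem_ker).mp htker, map_zero, zero_mul]
    rw [hsum, map_sum] at h1
    rw [← h1]
    refine Finset.sum_congr rfl fun j _ => ?_
    rw [map_mul, pr_cst, MvPolynomial.smul_eq_C_mul]
  obtain ⟨m, c, z, hyz', hac'⟩ :=
    Module.Flat.isTrivialRelation_of_sum_smul_eq_zero (R := C)
      (M := LinearMap.ker (evC C B).toLinearMap) hrel
  have hyz : ∀ j, yb j = ∑ l, c j l • z l := hyz'
  have hac : ∀ l, ∑ j, p.toAlgHom (a j) * c j l = 0 := hac'
  choose c' hc' using fun j l => S.hp.1 (c j l)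
  choose z' hz' using fun l => pr_surjective (B := B) S.hp.1 ((z l : MvPolynomial B C))
  have hz'ker : ∀ l, z' l ∈ (P' C' B).toExtension.ker := by
    intro l
    change algebraMap (P' C' B).toExtension.Ring B (z' l) = 0
    rw [← evC_pr S, hz' l]
    exact (z l).2
  -- `y j - ∑ c' z'` lies in `t R'`
  have hw : ∀ j, ∃ w : (P' C' B).toExtension.Ring,
      y j - ∑ l, cst C' B (c' j l) * z' l = cst C' B t * w := by
    intro j
    have h1 : y j - ∑ l, cst C' B (c' j l) * z' l ∈ RingHom.ker (pr p B) := by
      rw [RingHom.mem_ker, map_sub, map_sum, sub_eq_zero]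
      have h2 := congrArg Subtype.val (hyz j)
      rw [Submodule.coe_sum] at h2
      change pr p B (y j) = ∑ l, ((c j l • z l : LinearMap.ker (evC C B).toLinearMap) :
        MvPolynomial B C) at h2
      rw [h2]
      refine Finset.sum_congr rfl fun l _ => ?_
      rw [map_mul, pr_cst, hz' l, Submodule.coe_smul, MvPolynomial.smul_eq_C_mul]
      congr 2
      exact (hc' j l).symm
    rw [ker_pr, ht, Ideal.map_span, Set.image_singleton, Ideal.mem_span_singleton'] at h1
    obtain ⟨w, hw⟩ := h1
    exact ⟨w, by rw [← hw, mul_comm]⟩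
  choose w hw using hw
  have hd : ∀ l, ∃ d : C', ∑ j, a j * c' j l = t * d := by
    intro l
    have h1 : ∑ j, a j * c' j l ∈ RingHom.ker p.toAlgHom := by
      rw [RingHom.mem_ker, map_sum, ← hac l]
      refine Finset.sum_congr rfl fun j _ => ?_
      rw [map_mul]
      congr 1
      exact hc' j l
    rw [ht, Ideal.mem_span_singleton'] at h1
    obtain ⟨d, hd⟩ := h1
    exact ⟨d, by rw [← hd, mul_comm]⟩
  choose d hd using hd
  -- the key identity
  have hkey : cst C' B t * G = cst C' B t * ∑ l, cst C' B (d l) * z' l := by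
    rw [hsum]
    have e1 : ∀ j, cst C' B (a j) * y j =
        ∑ l, cst C' B (a j * c' j l) * z' l := by
      intro j
      have h1 : y j = ∑ l, cst C' B (c' j l) * z' l + cst C' B t * w j := by
        rw [← hw j]; ring
      rw [h1, mul_add, ← mul_assoc, ← map_mul, S.mul_eq_zero_of_mem (ha j) htker, map_zero,
        zero_mul, add_zero, Finset.mul_sum]
      refine Finset.sum_congr rfl fun l _ => ?_
      rw [map_mul, mul_assoc]
    rw [Finset.sum_congr rfl fun j _ => e1 j, Finset.sum_comm, Finset.mul_sum]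
    refine Finset.sum_congr rfl fun l _ => ?_
    rw [← Finset.sum_mul, ← map_sum, hd l, map_mul, mul_assoc]
  have h0 : cst C' B t * (G - ∑ l, cst C' B (d l) * z' l) = 0 := by
    rw [mul_sub, hkey, sub_self]
  have h1 := red_eq_zero_of_cst_mul_eq_zero S.hπ ht0 _ h0
  have h2 : π (algebraMap (P' C' B).toExtension.Ring B (G - ∑ l, cst C' B (d l) * z' l)) = 0 := by
    rw [← S.algebraMap_red, h1, map_zero]
  rw [map_sub, map_sub, sub_eq_zero] at h2
  rw [h2, map_sum, map_sum]
  refine Finset.sum_eq_zero fun l _ => ?_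
  have h3 : algebraMap (P' C' B).toExtension.Ring B (z' l) = 0 := hz'ker l
  rw [map_mul, h3, mul_zero, map_zero]

end Setup

end Groth.Agent.H61.Obs
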