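import Mathlib
import Groth.Prelude.Def_CotT

set_option linter.style.haveILetI false
set_option linter.unusedSectionVars false
set_option autoImplicit false

/-!
# `T² = 0`: linear maps on the relation module killing trivial relations are given by coefficients
-/

namespace Groth.Agent.H61.Obs

universe u v w t

open TensorProduct CotT

variable {A : Type u} {B : Type v} {ι : Type w} {σ : Type t}
variable [CommRing A] [CommRing B] [Algebra A B]
variable (P : Algebra.Presentation A B ι σ)

/-- if `T²(P, B) = 0`, every `R`-linear map on the relation module with values in `B` that kills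
the trivial relations is evaluation against a family of coefficients. -/
theorem exists_coeff_of_subsingleton_T2 (hT2 : Subsingleton (T2 P B))
    (o : relKer P →ₗ[P.toExtension.Ring] B)
    (ho : ∀ q : relKer P, (q : relMod P) ∈ trivRel P → o q = 0) :
    ∃ η : σ → B, ∀ q : relKer P,
      o q = (q : relMod P).sum fun s r => algebraMap P.toExtension.Ring B r * η s := by
  classical
  let ψ₁ : B ⊗[P.toExtension.Ring] relKer P →ₗ[B] B := LinearMap.liftBaseChange B o
  have hψ₁ : ∀ (b : B) (q : relKer P), ψ₁ (b ⊗ₜ q) = b * o q := by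
    intro b q
    change LinearMap.liftBaseChange B o (b ⊗ₜ q) = _
    rw [LinearMap.liftBaseChange_tmul, smul_eq_mul]
  have hle : LinearMap.range ((trivRelKer P).subtype.baseChange B) ≤ LinearMap.ker ψ₁ := by
    rw [LinearMap.range_le_ker_iff]
    refine TensorProduct.AlgebraTensorModule.ext fun b q' => ?_
    simp only [LinearMap.coe_comp, Function.comp_apply, LinearMap.baseChange_tmul,
      Submodule.coe_subtype, LinearMap.zero_apply]
    rw [hψ₁, ho _ q'.2, mul_zero]
  let ψ : L2 P →ₗ[B] B := Submodule.liftQ _ ψ₁ hle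
  have hψ : ∀ q : relKer P, ψ (Submodule.Quotient.mk ((1 : B) ⊗ₜ[P.toExtension.Ring] q)) = o q := by
    intro q
    change Submodule.liftQ _ ψ₁ hle (Submodule.Quotient.mk _) = _
    rw [Submodule.liftQ_apply, hψ₁, one_mul]
  have h0 : (Submodule.Quotient.mk ψ : T2 P B) = 0 := Subsingleton.elim _ _
  rw [Submodule.Quotient.mk_eq_zero] at h0
  obtain ⟨H, hH⟩ := h0
  rw [d2Star_apply] at hH
  refine ⟨fun s => H ((1 : B) ⊗ₜ[P.toExtension.Ring] (Finsupp.single s 1 : relMod P)), fun q => ?_⟩
  rw [← hψ q, ← hH, LinearMap.comp_apply, d2_mk_tmul]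
  have h1 : ((1 : B) ⊗ₜ[P.toExtension.Ring] ((q : relKer P) : relMod P) : L1 P) =
      ((q : relMod P).sum fun s r => algebraMap P.toExtension.Ring B r •
        ((1 : B) ⊗ₜ[P.toExtension.Ring] (Finsupp.single s 1 : relMod P) : L1 P)) := by
    conv_lhs => rw [← Finsupp.sum_single (q : relMod P)]
    rw [Finsupp.sum, Finsupp.sum, TensorProduct.tmul_sum]
    refine Finset.sum_congr rfl fun s _ => ?_
    have h2 : (Finsupp.single s ((q : relMod P) s) : relMod P) =
        ((q : relMod P) s) • (Finsupp.single s 1 : relMod P) := by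
      rw [Finsupp.smul_single, smul_eq_mul, mul_one]
    rw [h2, TensorProduct.tmul_smul, TensorProduct.smul_tmul', TensorProduct.smul_tmul',
      Algebra.smul_def, mul_one, smul_eq_mul, mul_one]
  rw [h1, Finsupp.sum, map_sum, Finsupp.sum]
  refine Finset.sum_congr rfl fun s _ => ?_
  rw [map_smul, smul_eq_mul]

end Groth.Agent.H61.Obs
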