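import Groth.Agent.H61.Obs.Beta
import Groth.Agent.H61.Obs.T2Ext

set_option linter.style.haveILetI false
set_option linter.unusedSectionVars false
set_option autoImplicit false

/-!
# The obstruction cocycle of a flat algebra along a small extension
-/

namespace Groth.Agent.H61.Obs

universe u

open ArtFun ArtFun.Art TensorProduct CategoryTheory CotT

variable {Λ : Type u} {k : Type u} [CommRing Λ] [Field k] [Algebra Λ k] {C' C : Art Λ k}
  {p : C' ⟶ C}
  {B : Type u} [CommRing B] [Algebra C B] [Algebra C' B]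
  {B₀ : Type u} [CommRing B₀] [Algebra k B₀] {π : B →+* B₀}

namespace Setup

variable (S : Setup p π)

/-- chosen lifts of the relations of `B₀` to the kernel of `R' → B`. -/
noncomputable def lft (s : (gens₀ k π S.hπ).ker) : (P' C' B).toExtension.Ring :=
  (S.exists_mem_ker_red_eq s.1 s.2).choose

lemma lft_mem (s : (gens₀ k π S.hπ).ker) : S.lft s ∈ (P' C' B).toExtension.ker :=
  (S.exists_mem_ker_red_eq s.1 s.2).choose_spec.1

lemma red_lft (s : (gens₀ k π S.hπ).ker) : red k π S.hπ (S.lft s) = s.1 :=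
  (S.exists_mem_ker_red_eq s.1 s.2).choose_spec.2

/-- the lifted relation map. -/
noncomputable def JJ : ((gens₀ k π S.hπ).ker →₀ (P' C' B).toExtension.Ring) →ₗ[(P' C' B).toExtension.Ring]
    (P' C' B).toExtension.Ring :=
  Finsupp.linearCombination (P' C' B).toExtension.Ring S.lft

lemma JJ_single (s : (gens₀ k π S.hπ).ker) (r : (P' C' B).toExtension.Ring) :
    S.JJ (Finsupp.single s r) = r * S.lft s := by
  unfold JJ
  rw [Finsupp.linearCombination_single, smul_eq_mul]

lemma JJ_mem_ker (x : (gens₀ k π S.hπ).ker →₀ (P' C' B).toExtension.Ring) :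
    S.JJ x ∈ (P' C' B).toExtension.ker := by
  induction x using Finsupp.induction_linear with
  | zero => rw [map_zero]; exact Ideal.zero_mem _
  | add x y hx hy => rw [map_add]; exact Ideal.add_mem _ hx hy
  | single s r => rw [JJ_single]; exact Ideal.mul_mem_left _ _ (S.lft_mem s)

/-- reduction of coefficient vectors. -/
noncomputable def mapRed : ((gens₀ k π S.hπ).ker →₀ (P' C' B).toExtension.Ring) →+
    relMod (P₀ k π S.hπ) :=
  Finsupp.mapRange.addMonoidHom (red k π S.hπ).toAddMonoidHom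

lemma mapRed_apply (x : (gens₀ k π S.hπ).ker →₀ (P' C' B).toExtension.Ring)
    (s : (gens₀ k π S.hπ).ker) : S.mapRed x s = red k π S.hπ (x s) := rfl

lemma mapRed_single (s : (gens₀ k π S.hπ).ker) (r : (P' C' B).toExtension.Ring) :
    S.mapRed (Finsupp.single s r) = Finsupp.single s (red k π S.hπ r) := by
  unfold mapRed
  rw [Finsupp.mapRange.addMonoidHom_apply, Finsupp.mapRange_single]
  rfl

lemma mapRed_smul (r : (P' C' B).toExtension.Ring)
    (x : (gens₀ k π S.hπ).ker →₀ (P' C' B).toExtension.Ring) :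
    S.mapRed (r • x) = red k π S.hπ r • S.mapRed x := by
  ext s
  rw [mapRed_apply, Finsupp.smul_apply, Finsupp.smul_apply, mapRed_apply, smul_eq_mul, smul_eq_mul,
    map_mul]

lemma mapRed_surjective : Function.Surjective S.mapRed := by
  intro q
  induction q using Finsupp.induction_linear with
  | zero => exact ⟨0, map_zero _⟩
  | add x y hx hy =>
    obtain ⟨x', rfl⟩ := hx
    obtain ⟨y', rfl⟩ := hy
    exact ⟨x' + y', map_add _ _ _⟩
  | single s r =>
    obtain ⟨r', rfl⟩ := red_surjective (C' := C') k π S.hπ r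
    exact ⟨Finsupp.single s r', S.mapRed_single s r'⟩

lemma jmap_mapRed (x : (gens₀ k π S.hπ).ker →₀ (P' C' B).toExtension.Ring) :
    jmap (P₀ k π S.hπ) (S.mapRed x) = red k π S.hπ (S.JJ x) := by
  induction x using Finsupp.induction_linear with
  | zero => rw [map_zero, map_zero, map_zero, map_zero]
  | add x y hx hy => rw [map_add, map_add, map_add, map_add, hx, hy]
  | single s r =>
    rw [mapRed_single, jmap_single, JJ_single, map_mul, S.red_lft]
    rfl

/-- the ideal `m' R'`. -/
noncomputable abbrev KI (_S : Setup p π) : Ideal (P' C' B).toExtension.Ring :=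
  (IsLocalRing.maximalIdeal C').map (cst C' B) * (P' C' B).toExtension.ker

lemma JJ_mem_of_forall_red_eq_zero (x : (gens₀ k π S.hπ).ker →₀ (P' C' B).toExtension.Ring)
    (h : ∀ s, red k π S.hπ (x s) = 0) : S.JJ x ∈ S.KI := by
  unfold JJ
  rw [Finsupp.linearCombination_apply, Finsupp.sum]
  refine Ideal.sum_mem _ fun s _ => ?_
  rw [smul_eq_mul]
  refine Ideal.mul_mem_mul ?_ (S.lft_mem s)
  rw [← ker_red (C' := C') k π S.hπ]
  exact h s

lemma JJ_mem_of_mapRed_eq_zero (x : (gens₀ k π S.hπ).ker →₀ (P' C' B).toExtension.Ring)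
    (h : S.mapRed x = 0) : S.JJ x ∈ S.KI :=
  S.JJ_mem_of_forall_red_eq_zero x fun s => by
    rw [← S.mapRed_apply, h]
    rfl

/-- `b` is a value of the obstruction at the relation `q`. -/
def IsObs (t : C') (q : relMod (P₀ k π S.hπ)) (b : B₀) : Prop :=
  ∃ (x : (gens₀ k π S.hπ).ker →₀ (P' C' B).toExtension.Ring) (G : (P' C' B).toExtension.Ring),
    S.mapRed x = q ∧ S.JJ x - cst C' B t * G ∈ S.KI ∧
      π (algebraMap (P' C' B).toExtension.Ring B G) = b

variable {S}

lemma IsObs.add {t : C'} {q q' : relMod (P₀ k π S.hπ)} {b b' : B₀}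
    (h : S.IsObs t q b) (h' : S.IsObs t q' b') : S.IsObs t (q + q') (b + b') := by
  obtain ⟨x, G, h1, h2, h3⟩ := h
  obtain ⟨x', G', h1', h2', h3'⟩ := h'
  refine ⟨x + x', G + G', by rw [map_add, h1, h1'], ?_, by rw [map_add, map_add, h3, h3']⟩
  have : S.JJ (x + x') - cst C' B t * (G + G') =
      (S.JJ x - cst C' B t * G) + (S.JJ x' - cst C' B t * G') := by
    rw [map_add]; ring
  rw [this]
  exact Ideal.add_mem _ h2 h2'

lemma IsObs.smul {t : C'} {q : relMod (P₀ k π S.hπ)} {b : B₀} (h : S.IsObs t q b)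
    (r : (P' C' B).toExtension.Ring) :
    S.IsObs t (red k π S.hπ r • q) (π (algebraMap (P' C' B).toExtension.Ring B r) * b) := by
  obtain ⟨x, G, h1, h2, h3⟩ := h
  refine ⟨r • x, r * G, by rw [S.mapRed_smul, h1], ?_, by rw [map_mul, map_mul, h3]⟩
  have : S.JJ (r • x) - cst C' B t * (r * G) = r * (S.JJ x - cst C' B t * G) := by
    rw [map_smul, smul_eq_mul]; ring
  rw [this]
  exact Ideal.mul_mem_left _ _ h2

variable (S)

lemma isObs_zero (t : C') : S.IsObs t 0 0 :=
  ⟨0, 0, map_zero _, by rw [map_zero, mul_zero, sub_zero]; exact Ideal.zero_mem _,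
    by rw [map_zero, map_zero]⟩

/-- existence of obstruction values on relations. -/
lemma isObs_exists {t : C'} (ht : RingHom.ker p.toAlgHom = Ideal.span {t})
    (q : relMod (P₀ k π S.hπ)) (hq : q ∈ relKer (P₀ k π S.hπ)) : ∃ b, S.IsObs t q b := by
  obtain ⟨x, rfl⟩ := S.mapRed_surjective q
  have h1 : red k π S.hπ (S.JJ x) = 0 := by
    rw [← S.jmap_mapRed]
    exact hq
  have h2 := S.mem_of_red_eq_zero _ (S.JJ_mem_ker x) h1
  rw [Submodule.mem_sup] at h2
  obtain ⟨κ, hκ, z, hz, hsum⟩ := h2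
  rw [ht, Ideal.map_span, Set.image_singleton, Ideal.mem_span_singleton'] at hz
  obtain ⟨G, hG⟩ := hz
  refine ⟨_, x, G, rfl, ?_, rfl⟩
  have : S.JJ x - cst C' B t * G = κ := by
    rw [← hsum, ← hG]; ring
  rw [this]
  exact hκ

/-- uniqueness of obstruction values. -/
lemma isObs_unique {t : C'} (ht : RingHom.ker p.toAlgHom = Ideal.span {t}) (ht0 : t ≠ 0)
    {q : relMod (P₀ k π S.hπ)} {b b' : B₀} (h : S.IsObs t q b) (h' : S.IsObs t q b') : b = b' := by
  obtain ⟨x, G, h1, h2, h3⟩ := h
  obtain ⟨x', G', h1', h2', h3'⟩ := h'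
  have h4 : S.JJ (x - x') ∈ S.KI := by
    apply S.JJ_mem_of_mapRed_eq_zero
    rw [map_sub, h1, h1', sub_self]
  have h5 : cst C' B t * (G - G') ∈ S.KI := by
    have : cst C' B t * (G - G') =
        S.JJ (x - x') - (S.JJ x - cst C' B t * G) + (S.JJ x' - cst C' B t * G') := by
      rw [map_sub]; ring
    rw [this]
    exact Ideal.add_mem _ (Ideal.sub_mem _ h4 h2) h2'
  have h6 := S.tau_eq_zero_of_mem_mul ht ht0 (G - G') h5
  rw [map_sub, map_sub, sub_eq_zero] at h6
  rw [← h3, ← h3', h6]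

/-- trivial relations have obstruction zero. -/
lemma isObs_trivRel (t : C') (q : relMod (P₀ k π S.hπ)) (hq : q ∈ trivRel (P₀ k π S.hπ)) :
    S.IsObs t q 0 := by
  unfold trivRel at hq
  induction hq using Submodule.span_induction with
  | mem y hy =>
    obtain ⟨a, b, rfl⟩ := hy
    obtain ⟨a', rfl⟩ := S.mapRed_surjective a
    obtain ⟨b', rfl⟩ := S.mapRed_surjective b
    refine ⟨S.JJ a' • b' - S.JJ b' • a', 0, ?_, ?_, by rw [map_zero, map_zero]⟩
    · rw [map_sub, S.mapRed_smul, S.mapRed_smul, S.jmap_mapRed, S.jmap_mapRed]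
    · rw [mul_zero, sub_zero, map_sub, map_smul, map_smul, smul_eq_mul, smul_eq_mul, mul_comm,
        sub_self]
      exact Ideal.zero_mem _
  | zero => exact S.isObs_zero t
  | add y z _ _ hy hz =>
    have := hy.add hz
    rwa [add_zero] at this
  | smul r y _ hy =>
    obtain ⟨r', rfl⟩ := red_surjective (C' := C') k π S.hπ r
    have := hy.smul r'
    rwa [mul_zero] at this

end Setup

end Groth.Agent.H61.Obs
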