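import Groth.Agent.H61.Obs.Cocycle

set_option linter.style.haveILetI false
set_option linter.unusedSectionVars false
set_option autoImplicit false

/-!
# Correcting the lifted relations when `T² = 0`
-/

namespace Groth.Agent.H61.Obs

universe u

open ArtFun ArtFun.Art TensorProduct CategoryTheory CotT

variable {Λ : Type u} {k : Type u} [CommRing Λ] [Field k] [Algebra Λ k] {C' C : Art Λ k}
  {p : C' ⟶ C}
  {B : Type u} [CommRing B] [Algebra C B] [Algebra C' B]
  {B₀ : Type u} [CommRing B₀] [Algebra k B₀] {π : B →+* B₀}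

namespace Setup

variable (S : Setup p π) {t : C'} (ht : RingHom.ker p.toAlgHom = Ideal.span {t}) (ht0 : t ≠ 0)
include S

/-- the obstruction cocycle. -/
noncomputable def obs : relKer (P₀ k π S.hπ) →ₗ[(P₀ k π S.hπ).toExtension.Ring] B₀ where
  toFun q := (S.isObs_exists ht q.1 q.2).choose
  map_add' q q' :=
    S.isObs_unique ht ht0 (S.isObs_exists ht (q + q').1 (q + q').2).choose_spec
      ((S.isObs_exists ht q.1 q.2).choose_spec.add (S.isObs_exists ht q'.1 q'.2).choose_spec)
  map_smul' r q := by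
    obtain ⟨r', rfl⟩ := red_surjective (C' := C') k π S.hπ r
    have h1 := (S.isObs_exists ht q.1 q.2).choose_spec.smul r'
    have h2 := (S.isObs_exists ht (red k π S.hπ r' • q).1 (red k π S.hπ r' • q).2).choose_spec
    have h3 := S.isObs_unique ht ht0 h2 h1
    rw [RingHom.id_apply, Algebra.smul_def, S.algebraMap_red]
    exact h3

lemma obs_spec (q : relKer (P₀ k π S.hπ)) : S.IsObs t q.1 (S.obs ht ht0 q) :=
  (S.isObs_exists ht q.1 q.2).choose_spec

lemma obs_eq_of_isObs (q : relKer (P₀ k π S.hπ)) (b : B₀) (h : S.IsObs t q.1 b) :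
    S.obs ht ht0 q = b :=
  S.isObs_unique ht ht0 (S.obs_spec ht ht0 q) h

include ht in
lemma cst_t_mem_ker : cst C' B t ∈ (P' C' B).toExtension.ker := by
  have htker : t ∈ RingHom.ker p.toAlgHom := by rw [ht]; exact Ideal.mem_span_singleton_self t
  change algebraMap (P' C' B).toExtension.Ring B (cst C' B t) = 0
  rw [S.algebraMap_cst]
  exact S.algebraMap_eq_zero_of_mem htker

include ht in
lemma red_cst_t : red k π S.hπ (cst C' B t) = 0 := by
  have htker : t ∈ RingHom.ker p.toAlgHom := by rw [ht]; exact Ideal.mem_span_singleton_self t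
  rw [red_cst, (mem_maximalIdeal_iff C' t).mp (S.ker_le_maximalIdeal htker), map_zero]
  rfl

lemma KI_le_ker : S.KI ≤ (P' C' B).toExtension.ker := Ideal.mul_le_right

lemma red_eq_zero_of_mem_KI (z : (P' C' B).toExtension.Ring) (hz : z ∈ S.KI) :
    red k π S.hπ z = 0 := by
  have h1 : z ∈ RingHom.ker (red k π S.hπ) := by
    rw [ker_red]
    exact Ideal.mul_le_left hz
  exact h1

include ht ht0 in
/-- **Correction of the lifted relations.** If `T²(B₀/k, B₀) = 0` there is an ideal `I'' ⊆ I'`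
of `R'` with `I' = I'' + t R'` such that `t G ∈ I''` forces `τ(G) = 0`. -/
theorem exists_ideal (hT2 : Subsingleton (T2 (P₀ k π S.hπ) B₀)) :
    ∃ I'' : Ideal (P' C' B).toExtension.Ring, I'' ≤ (P' C' B).toExtension.ker ∧
      (P' C' B).toExtension.ker ≤ I'' ⊔ Ideal.span {cst C' B t} ∧ S.KI ≤ I'' ∧
      ∀ G, cst C' B t * G ∈ I'' → π (algebraMap (P' C' B).toExtension.Ring B G) = 0 := by
  classical
  obtain ⟨η, hη⟩ := exists_coeff_of_subsingleton_T2 (P₀ k π S.hπ) hT2 (S.obs ht ht0)
    (fun q hq => S.obs_eq_of_isObs ht ht0 q 0 (S.isObs_trivRel t q.1 hq))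
  have hτsurj : ∀ b₀ : B₀, ∃ g : (P' C' B).toExtension.Ring,
      π (algebraMap (P' C' B).toExtension.Ring B g) = b₀ := by
    intro b₀
    obtain ⟨b, rfl⟩ := S.hπ b₀
    obtain ⟨g, rfl⟩ := (P' C' B).toExtension.algebraMap_surjective b
    exact ⟨g, rfl⟩
  choose Es hEs using fun s => hτsurj (η s)
  let L' : (gens₀ k π S.hπ).ker → (P' C' B).toExtension.Ring := fun s =>
    S.lft s - cst C' B t * Es s
  refine ⟨Ideal.span (Set.range L') ⊔ S.KI, ?_, ?_, le_sup_right, ?_⟩
  · refine sup_le (Ideal.span_le.mpr ?_) S.KI_le_ker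
    rintro _ ⟨s, rfl⟩
    exact Ideal.sub_mem _ (S.lft_mem s) (Ideal.mul_mem_right _ _ (S.cst_t_mem_ker ht))
  · intro y hy
    let s₀ : (gens₀ k π S.hπ).ker := ⟨red k π S.hπ y, S.red_mem_ker y hy⟩
    have h1 : y - S.lft s₀ ∈ (P' C' B).toExtension.ker := Ideal.sub_mem _ hy (S.lft_mem s₀)
    have h2 : red k π S.hπ (y - S.lft s₀) = 0 := by
      rw [map_sub, S.red_lft, sub_self]
    have h3 := S.mem_of_red_eq_zero _ h1 h2
    rw [ht, Ideal.map_span, Set.image_singleton] at h3
    have h4 : y = L' s₀ + (cst C' B t * Es s₀ + (y - S.lft s₀)) := by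
      change y = (S.lft s₀ - cst C' B t * Es s₀) + _
      ring
    rw [h4]
    refine Ideal.add_mem _ (Ideal.mem_sup_left (Ideal.mem_sup_left
      (Ideal.subset_span ⟨s₀, rfl⟩))) ?_
    refine Ideal.add_mem _ (Ideal.mem_sup_right
      (Ideal.mul_mem_right _ _ (Ideal.mem_span_singleton_self _))) ?_
    rw [Submodule.mem_sup] at h3
    obtain ⟨κ, hκ, z, hz, hsum⟩ := h3
    rw [← hsum]
    exact Ideal.add_mem _ (Ideal.mem_sup_left (Ideal.mem_sup_right hκ)) (Ideal.mem_sup_right hz)
  · intro G hG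
    rw [Submodule.mem_sup] at hG
    obtain ⟨y, hy, κ, hκ, hsum⟩ := hG
    change y ∈ Submodule.span _ _ at hy
    rw [Finsupp.mem_span_range_iff_exists_finsupp] at hy
    obtain ⟨x, rfl⟩ := hy
    let W : (P' C' B).toExtension.Ring := x.sum fun s r => r * Es s
    have hx : (x.sum fun s r => r • L' s) = S.JJ x - cst C' B t * W := by
      unfold JJ
      rw [Finsupp.linearCombination_apply]
      change _ = (x.sum fun s r => r • S.lft s) - cst C' B t * (x.sum fun s r => r * Es s)
      rw [Finsupp.sum, Finsupp.sum, Finsupp.sum, Finset.mul_sum, ← Finset.sum_sub_distrib]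
      refine Finset.sum_congr rfl fun s _ => ?_
      change x s • (S.lft s - cst C' B t * Es s) = _
      rw [smul_eq_mul, smul_eq_mul]
      ring
    rw [hx] at hsum
    have h1 : S.JJ x - cst C' B t * (G + W) = -κ := by
      linear_combination hsum
    have hq : S.mapRed x ∈ relKer (P₀ k π S.hπ) := by
      change jmap (P₀ k π S.hπ) (S.mapRed x) = 0
      rw [S.jmap_mapRed]
      have h2 : S.JJ x = cst C' B t * (G + W) - κ := by
        linear_combination h1
      rw [h2, map_sub, map_mul, S.red_cst_t ht, zero_mul, S.red_eq_zero_of_mem_KI κ hκ, sub_zero]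
    have hobs : S.IsObs t (S.mapRed x)
        (π (algebraMap (P' C' B).toExtension.Ring B (G + W))) :=
      ⟨x, G + W, rfl, by rw [h1]; exact neg_mem hκ, rfl⟩
    have h3 := S.obs_eq_of_isObs ht ht0 ⟨S.mapRed x, hq⟩ _ hobs
    rw [hη] at h3
    have h4 : π (algebraMap (P' C' B).toExtension.Ring B W) =
        ((S.mapRed x : relMod (P₀ k π S.hπ)).sum fun s r =>
          algebraMap (P₀ k π S.hπ).toExtension.Ring B₀ r * η s) := by
      have h5 : (S.mapRed x : relMod (P₀ k π S.hπ)) =
          Finsupp.mapRange (red k π S.hπ) (map_zero _) x := rfl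
      rw [h5, Finsupp.sum_mapRange_index (fun s => by rw [map_zero, zero_mul])]
      change π (algebraMap (P' C' B).toExtension.Ring B (x.sum fun s r => r * Es s)) = _
      rw [Finsupp.sum, Finsupp.sum, map_sum, map_sum]
      refine Finset.sum_congr rfl fun s _ => ?_
      rw [map_mul, map_mul, hEs, S.algebraMap_red]
    rw [map_add, map_add, h4] at h3
    exact right_eq_add.mp h3

end Setup

end Groth.Agent.H61.Obs
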