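import Mathlib
import Groth.Prelude.Def_ArtFun4
import Groth.Agent.H61.DefAlg.GRing

set_option linter.style.haveILetI false
set_option linter.unusedSectionVars false
set_option autoImplicit false

/-! The coordinate ring of a deformation of `Spec B₀` over an object of `Art Λ k` (general `Λ`),
and deformations built from ring data. -/

open AlgebraicGeometry CategoryTheory CategoryTheory.Limits Opposite TopologicalSpace

namespace Groth.Agent.H61.Obs

universe u

open ArtFun ArtFun.Art Groth.Agent.H61.AffThick Groth.Agent.H61.DefAlg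

variable {Λ : Type u} {k : Type u} [CommRing Λ] [Field k] [Algebra Λ k]
  {B₀ : Type u} [CommRing B₀] [Algebra k B₀] {A : Art Λ k}

/-- compatibility of `Γ(total) → Γ(Spec B₀)` with the structure maps. -/
lemma i_appTop_φ (ξ : DefSch (XB k B₀) (xB k B₀) A) (a : A) :
    ξ.i.appTop.hom (DefSch.φ ξ a) =
      (Scheme.ΓSpecIso (CommRingCat.of B₀)).inv.hom (algebraMap k B₀ (A.res a)) := by
  have h1 : ξ.f.appTop ≫ ξ.i.appTop = (specRes A).appTop ≫
      (Spec.map (CommRingCat.ofHom (algebraMap k B₀))).appTop := by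
    rw [← Scheme.Hom.comp_appTop, ← Scheme.Hom.comp_appTop, ξ.i_f]
  have h2 := ConcreteCategory.congr_hom h1 ((Scheme.ΓSpecIso (CommRingCat.of A)).inv.hom a)
  have h3 := ConcreteCategory.congr_hom
    (Scheme.ΓSpecIso_inv_naturality (CommRingCat.ofHom A.res.toRingHom)) a
  have h4 := ConcreteCategory.congr_hom
    (Scheme.ΓSpecIso_inv_naturality (CommRingCat.ofHom (algebraMap k B₀))) (A.res a)
  simp only [CommRingCat.comp_apply] at h2 h3 h4
  change ξ.i.appTop.hom (ξ.f.appTop.hom _) = _
  rw [h2]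
  erw [← h3]
  exact h4.symm

/-- the coordinate ring of the total space. -/
def GR (ξ : DefSch (XB k B₀) (xB k B₀) A) : Type u := Γ(ξ.total, ⊤)

variable (ξ : DefSch (XB k B₀) (xB k B₀) A)

instance : CommRing (GR ξ) := inferInstanceAs (CommRing Γ(ξ.total, ⊤))

noncomputable instance : Algebra A (GR ξ) := (DefSch.φ ξ).toAlgebra

instance : Module.Flat A (GR ξ) := DefSch.φ_flat ξ

lemma GR.algebraMap_eq (a : A) : algebraMap A (GR ξ) a = DefSch.φ ξ a := rfl

/-- the augmentation `Γ(total) → B₀`. -/
noncomputable def πL : GR ξ →+* B₀ :=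
  (Scheme.ΓSpecIso (CommRingCat.of B₀)).hom.hom.comp ξ.i.appTop.hom

lemma πL_apply (r : GR ξ) :
    πL ξ r = (Scheme.ΓSpecIso (CommRingCat.of B₀)).hom.hom (ξ.i.appTop.hom r) := rfl

lemma πL_surjective : Function.Surjective (πL ξ) :=
  (ConcreteCategory.bijective_of_isIso (Scheme.ΓSpecIso (CommRingCat.of B₀)).hom).surjective.comp
    (DefSch.i_appTop_surjective ξ)

lemma ker_πL : RingHom.ker (πL ξ) =
    (IsLocalRing.maximalIdeal A).map (algebraMap A (GR ξ)) := by
  ext z
  rw [RingHom.mem_ker]
  have h1 : πL ξ z = 0 ↔ ξ.i.appTop.hom z = 0 := by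
    change (Scheme.ΓSpecIso (CommRingCat.of B₀)).hom.hom (ξ.i.appTop.hom z) = 0 ↔ _
    constructor
    · intro h
      exact (ConcreteCategory.bijective_of_isIso (Scheme.ΓSpecIso (CommRingCat.of B₀)).hom).injective
        (h.trans (map_zero _).symm)
    · intro h; rw [h, map_zero]
  rw [h1]
  have h2 := DefSch.ker_i_appTop ξ
  have h3 : (z ∈ (IsLocalRing.maximalIdeal A).map (algebraMap A (GR ξ))) ↔
      z ∈ (IsLocalRing.maximalIdeal A).map (DefSch.φ ξ) := Iff.rfl
  rw [h3, ← h2]
  exact Iff.rfl

/-- compatibility of the augmentation with the `A`-algebra structure. -/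
lemma πL_algebraMap (a : A) : πL ξ (algebraMap A (GR ξ) a) = algebraMap k B₀ (A.res a) := by
  change (Scheme.ΓSpecIso (CommRingCat.of B₀)).hom.hom (ξ.i.appTop.hom (DefSch.φ ξ a)) = _
  rw [i_appTop_φ]
  exact ConcreteCategory.congr_hom (Scheme.ΓSpecIso (CommRingCat.of B₀)).inv_hom_id _

section Build

variable {E : Type u} [CommRing E] (φ : A →+* E) (π : E →+* B₀)

/-- the ring-level pushout square. -/
theorem isPushout_of_ker (hπ : Function.Surjective π)
    (hcomp : ∀ a, π (φ a) = algebraMap k B₀ (A.res a))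
    (hker : RingHom.ker π = (IsLocalRing.maximalIdeal A).map φ) :
    IsPushout (CommRingCat.ofHom φ) (CommRingCat.ofHom A.res.toRingHom)
      (CommRingCat.ofHom π) (CommRingCat.ofHom (algebraMap k B₀)) := by
  have w : CommRingCat.ofHom φ ≫ CommRingCat.ofHom π =
      CommRingCat.ofHom A.res.toRingHom ≫ CommRingCat.ofHom (algebraMap k B₀) := by
    ext a
    exact hcomp a
  -- the descent map
  have hle : ∀ s : PushoutCocone (CommRingCat.ofHom φ) (CommRingCat.ofHom A.res.toRingHom),
      RingHom.ker π ≤ RingHom.ker s.inl.hom := by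
    intro s
    rw [hker, Ideal.map_le_iff_le_comap]
    intro a ha
    rw [Ideal.mem_comap, RingHom.mem_ker]
    have h1 := ConcreteCategory.congr_hom s.condition a
    have h2 : s.inl.hom (φ a) = s.inr.hom (A.res a) := h1
    rw [h2, (mem_maximalIdeal_iff A a).mp ha, map_zero]
  let desc : ∀ s : PushoutCocone (CommRingCat.ofHom φ) (CommRingCat.ofHom A.res.toRingHom),
      CommRingCat.of B₀ ⟶ s.pt := fun s =>
    CommRingCat.ofHom (RingHom.liftOfSurjective π hπ ⟨s.inl.hom, hle s⟩)
  have hdesc : ∀ s e, (desc s).hom (π e) = s.inl.hom e := fun s e =>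
    RingHom.liftOfSurjective_comp_apply π hπ ⟨s.inl.hom, hle s⟩ e
  refine IsPushout.of_isColimit (PushoutCocone.IsColimit.mk w desc ?_ ?_ ?_)
  · intro s
    ext e
    exact hdesc s e
  · intro s
    ext c
    obtain ⟨a, rfl⟩ := A.res_surjective c
    change (desc s).hom (algebraMap k B₀ (A.res a)) = s.inr.hom (A.res a)
    rw [← hcomp, hdesc]
    exact ConcreteCategory.congr_hom s.condition a
  · intro s m hm _
    ext b
    obtain ⟨e, rfl⟩ := hπ b
    change m.hom (π e) = (desc s).hom (π e)
    rw [hdesc]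
    exact ConcreteCategory.congr_hom hm e

/-- the deformation of `Spec B₀` built from ring data. -/
noncomputable def build (hφ : φ.Flat) (hπ : Function.Surjective π)
    (hcomp : ∀ a, π (φ a) = algebraMap k B₀ (A.res a))
    (hker : RingHom.ker π = (IsLocalRing.maximalIdeal A).map φ) :
    DefSch (XB k B₀) (xB k B₀) A where
  total := Spec (CommRingCat.of E)
  f := Spec.map (CommRingCat.ofHom φ)
  flat := Flat.SpecMap_iff.mpr hφ
  i := Spec.map (CommRingCat.ofHom π)
  isPullback := isPullback_SpecMap_of_isPushout _ _ _ _ (isPushout_of_ker φ π hπ hcomp hker)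

end Build

end Groth.Agent.H61.Obs
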