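import Groth.Agent.H61.LS.SmoothT2
import Groth.Agent.H15.Koszul

set_option linter.style.haveILetI false
set_option linter.unusedSectionVars false
set_option autoImplicit false

/-!
# `T²` of a quotient by a sequence with only trivial relations vanishes
-/

open TensorProduct

namespace Groth.Agent.H61.Obs

open CotT MvPolynomial Groth.Agent.H61.LS Groth.Agent.H15

universe u v w t m

section Transport

variable {A : Type u} {A'' : Type v} [CommRing A] [CommRing A''] (e : A ≃+* A'') {n : ℕ}
  (f : Fin n → A)

/-- triviality of relations is invariant under ring isomorphisms. -/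
theorem koszulH1Zero_of_ringEquiv (h : CInt.KoszulH1Zero f A) :
    CInt.KoszulH1Zero (fun i => e (f i)) A'' := by
  classical
  rw [koszulH1Zero_iff] at h ⊢
  intro m'' hm''
  rw [LinearMap.mem_ker, sig_apply] at hm''
  let m : Fin n → A := fun i => e.symm (m'' i)
  have hm : m ∈ LinearMap.ker (sig f A) := by
    rw [LinearMap.mem_ker, sig_apply]
    apply e.injective
    rw [map_sum, map_zero, ← hm'']
    refine Finset.sum_congr rfl fun i _ => ?_
    rw [smul_eq_mul, smul_eq_mul, map_mul, e.apply_symm_apply]
  have h1 := h hm
  have key : ∀ v ∈ triv f A, (fun i => e (v i)) ∈ triv (fun i => e (f i)) A'' := by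
    intro v hv
    unfold triv at hv ⊢
    induction hv using Submodule.span_induction with
    | mem y hy =>
      obtain ⟨i, j, x, rfl⟩ := hy
      refine Submodule.subset_span ⟨i, j, e x, ?_⟩
      ext l
      simp only [Pi.sub_apply, Pi.smul_apply, smul_eq_mul, map_sub, map_mul]
      congr 2
      · by_cases hl : l = i
        · subst hl; rw [Pi.single_eq_same, Pi.single_eq_same]
        · rw [Pi.single_eq_of_ne hl, Pi.single_eq_of_ne hl, map_zero]
      · by_cases hl : l = j
        · subst hl; rw [Pi.single_eq_same, Pi.single_eq_same]
        · rw [Pi.single_eq_of_ne hl, Pi.single_eq_of_ne hl, map_zero]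
    | zero =>
      have : (fun i => e ((0 : Fin n → A) i)) = (0 : Fin n → A'') := by
        ext i; exact map_zero e
      rw [this]; exact Submodule.zero_mem _
    | add y z _ _ hy hz =>
      have : (fun i => e ((y + z) i)) = (fun i => e (y i)) + (fun i => e (z i)) := by
        ext i; exact map_add e _ _
      rw [this]; exact Submodule.add_mem _ hy hz
    | smul a y _ hy =>
      have : (fun i => e ((a • y) i)) = e a • (fun i => e (y i)) := by
        ext i; exact map_mul e _ _
      rw [this]; exact Submodule.smul_mem _ _ hy
  have h2 := key m h1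
  have h3 : (fun i => e (m i)) = m'' := by
    ext i; exact e.apply_symm_apply _
  rw [h3] at h2
  exact h2

end Transport

section Quot

variable {A : Type u} {B : Type v} [CommRing A] [CommRing B] [Algebra A B]

/-- `T²` of any presentation of a quotient by a sequence with only trivial relations vanishes. -/
theorem subsingleton_T2_of_koszul (hs : Function.Surjective (algebraMap A B)) (l : List A)
    (hK : CInt.KoszulH1Zero (fun i : Fin l.length => l.get i) A)
    (hI : RingHom.ker (algebraMap A B) = Ideal.ofList l)
    {ι' : Type w} {σ' : Type t} (P : Algebra.Presentation A B ι' σ')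
    (M : Type m) [AddCommGroup M] [Module B M] : Subsingleton (T2 P M) := by
  classical
  have hI' : RingHom.ker (algebraMap A B) = Ideal.span (Set.range fun i : Fin l.length => l.get i) := by
    rw [hI]
    unfold Ideal.ofList
    congr 1
    ext r
    simp only [Set.mem_ofPred_eq, Set.mem_range]
    constructor
    · intro hr
      obtain ⟨i, hi⟩ := List.mem_iff_get.1 hr
      exact ⟨i, hi⟩
    · rintro ⟨i, rfl⟩
      exact List.get_mem l i
  let P₀ := quotPres.{u, v, 0} hs (fun i : Fin l.length => l.get i) hI'
  let h : PresHom P P₀ := defaultPresHom _ _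
  have b2 := T2pull_bijective M h
  have hP₀ : Subsingleton (T2 P₀ M) := by
    apply subsingleton_T2_of_relKer_le
    apply relKer_le_trivRel_of_koszul
    exact koszulH1Zero_of_ringEquiv (isEmptyRingEquiv A PEmpty.{1}).symm _ hK
  refine ⟨fun a b => ?_⟩
  obtain ⟨a', rfl⟩ := b2.2 a
  obtain ⟨b', rfl⟩ := b2.2 b
  rw [Subsingleton.elim a' b']

end Quot

end Groth.Agent.H61.Obs
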