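import Groth.Agent.H61.Obs.LocalRetr
import Groth.Agent.H61.Obs.KoszulT2
import Groth.Agent.H61.Obs.KoszulBridge

set_option linter.style.haveILetI false
set_option linter.unusedSectionVars false
set_option autoImplicit false

/-!
# `T²` vanishes for presentations with Koszul-regular kernel
-/

open TensorProduct

namespace Groth.Agent.H61.Obs

open CotT MvPolynomial Groth.Agent.H61.LS

universe u v w t m

variable {k : Type u} {B : Type v} [CommRing k] [CommRing B] [Algebra k B] {ι : Type w} {σ : Type t}
variable (P : Algebra.Presentation k B ι σ)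

/-- `L₂` is finitely generated for a finite presentation over a Noetherian polynomial ring. -/
lemma fg_top_L2 [Finite σ] [IsNoetherianRing P.toExtension.Ring] :
    (⊤ : Submodule B (L2 P)).FG := by
  haveI : Module.Finite P.toExtension.Ring (relMod P) := inferInstance
  haveI : IsNoetherian P.toExtension.Ring (relMod P) := inferInstance
  haveI : Module.Finite P.toExtension.Ring (relKer P) := inferInstance
  haveI : Module.Finite B (B ⊗[P.toExtension.Ring] (relKer P)) := inferInstance
  haveI : Module.Finite B (L2 P) := inferInstance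
  exact Module.Finite.fg_top

/-- the multipliers `r` for which `d₂` has a retraction up to `r`. -/
def retrIdeal : Ideal P.toExtension.Ring where
  carrier := {r | ∃ ρ : L1 P →ₗ[B] L2 P,
    ρ ∘ₗ d2 P = algebraMap P.toExtension.Ring B r • LinearMap.id}
  zero_mem' := ⟨0, by rw [LinearMap.zero_comp, map_zero, zero_smul]⟩
  add_mem' := by
    rintro a b ⟨ρ₁, h₁⟩ ⟨ρ₂, h₂⟩
    exact ⟨ρ₁ + ρ₂, by rw [LinearMap.add_comp, h₁, h₂, map_add, add_smul]⟩
  smul_mem' := by
    rintro c a ⟨ρ, h⟩
    refine ⟨algebraMap P.toExtension.Ring B c • ρ, ?_⟩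
    rw [LinearMap.smul_comp, h, smul_smul, smul_eq_mul, map_mul]

lemma mem_retrIdeal (r : P.toExtension.Ring) : r ∈ retrIdeal P ↔
    ∃ ρ : L1 P →ₗ[B] L2 P, ρ ∘ₗ d2 P = algebraMap P.toExtension.Ring B r • LinearMap.id :=
  Iff.rfl

lemma ker_le_retrIdeal : P.toExtension.ker ≤ retrIdeal P := by
  intro r hr
  refine ⟨0, ?_⟩
  have : algebraMap P.toExtension.Ring B r = 0 := hr
  rw [LinearMap.zero_comp, this, zero_smul]

/-- local analysis on a basic open where the kernel is generated by a Koszul-regular sequence. -/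
theorem exists_pow_mem_retrIdeal [Finite σ] [IsNoetherianRing P.toExtension.Ring]
    (g : P.toExtension.Ring) (l : List (Localization.Away g))
    (hreg : LCI.IsKoszulRegularSeq (Localization.Away g) l)
    (hJ : P.toExtension.ker.map (algebraMap P.toExtension.Ring (Localization.Away g)) =
      Ideal.span {x | x ∈ l}) :
    ∃ u ∈ Submonoid.powers g, u ∈ retrIdeal P := by
  set J : Ideal (Localization.Away g) :=
    P.toExtension.ker.map (algebraMap P.toExtension.Ring (Localization.Away g)) with hJdef
  have hs : Function.Surjective (algebraMap (Localization.Away g) (Localization.Away g ⧸ J)) :=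
    Ideal.Quotient.mk_surjective
  have hker : RingHom.ker (algebraMap (Localization.Away g) (Localization.Away g ⧸ J)) = J :=
    Ideal.mk_ker
  have hIf : RingHom.ker (algebraMap (Localization.Away g) (Localization.Away g ⧸ J)) =
      Ideal.span (Set.range fun s : σ =>
        algebraMap P.toExtension.Ring (Localization.Away g) (rel P s)) := by
    rw [hker, hJdef]
    have h0 : P.toExtension.ker = Ideal.span (Set.range (rel P)) := P.span_range_relation_eq_ker.symm
    rw [h0, Ideal.map_span, ← Set.range_comp]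
    rfl
  let P' := quotPresGen.{_, _, 0, t} hs
    (fun s : σ => algebraMap P.toExtension.Ring (Localization.Away g) (rel P s)) hIf
  let ψ : P.toExtension.Ring →+* P'.toExtension.Ring :=
    (C : Localization.Away g →+* MvPolynomial PEmpty.{1} (Localization.Away g)).comp
      (algebraMap P.toExtension.Ring (Localization.Away g))
  have hrel : ∀ s, rel P' s = ψ (rel P s) := fun s => rfl
  have h1 : ∀ r'' : P'.toExtension.Ring, ∃ r : P.toExtension.Ring, ∃ w ∈ Submonoid.powers g,
      ψ w * r'' = ψ r := by
    intro r''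
    obtain ⟨⟨r, w⟩, hrw⟩ := IsLocalization.surj (Submonoid.powers g)
      (MvPolynomial.coeff 0 (r'' : MvPolynomial PEmpty.{1} (Localization.Away g)))
    refine ⟨r, w.1, w.2, ?_⟩
    have h0 : (r'' : MvPolynomial PEmpty.{1} (Localization.Away g)) = C (MvPolynomial.coeff 0 r'') :=
      MvPolynomial.eq_C_of_isEmpty r''
    have h3 : (C (algebraMap _ (Localization.Away g) w.1) * C (MvPolynomial.coeff 0 r'') :
        MvPolynomial PEmpty.{1} (Localization.Away g)) =
        C (algebraMap _ (Localization.Away g) r) := by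
      rw [← C_mul, mul_comm]
      exact congrArg C hrw
    rw [h0]
    exact h3
  have h2 : ∀ x : P.toExtension.Ring, ψ x = 0 → ∃ v ∈ Submonoid.powers g, v * x = 0 := by
    intro x hx
    have hx' : algebraMap P.toExtension.Ring (Localization.Away g) x = 0 := by
      apply MvPolynomial.C_injective PEmpty.{1} (Localization.Away g)
      rw [map_zero]
      exact hx
    obtain ⟨m, hm⟩ := (IsLocalization.map_eq_zero_iff (Submonoid.powers g)
      (Localization.Away g) x).1 hx'
    exact ⟨m.1, m.2, hm⟩
  have hT : Subsingleton (T2 P' (L2 P')) :=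
    subsingleton_T2_of_koszul hs l (koszulH1Zero_of_isKoszulRegularSeq l hreg)
      (by rw [hker, hJ]) P' (L2 P')
  obtain ⟨u, hu, ρ, hρ⟩ := exists_retraction_smul P P' ψ hrel (Submonoid.powers g) h1 h2 hT
    (fg_top_L2 P)
  exact ⟨u, hu, ρ, hρ⟩

/-- **`T²` vanishes for Koszul-regular kernels.** -/
theorem subsingleton_T2_of_isKoszulRegularIdeal [Finite σ] [IsNoetherianRing P.toExtension.Ring]
    (hK : LCI.IsKoszulRegularIdeal P.toExtension.ker)
    (M : Type m) [AddCommGroup M] [Module B M] : Subsingleton (T2 P M) := by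
  have htop : retrIdeal P = ⊤ := by
    by_contra hne
    obtain ⟨n, hn, hle⟩ := Ideal.exists_le_maximal (retrIdeal P) hne
    have hIle : P.toExtension.ker ≤ n := le_trans (ker_le_retrIdeal P) hle
    obtain ⟨g, hg, l, hreg, hJ⟩ := hK ⟨n, hn.isPrime⟩ hIle
    obtain ⟨u, ⟨m', rfl⟩, hu⟩ := exists_pow_mem_retrIdeal P g l hreg hJ
    exact hg (hn.isPrime.mem_of_pow_mem m' (hle hu))
  have h1 : (1 : P.toExtension.Ring) ∈ retrIdeal P := by rw [htop]; exact Submodule.mem_top
  obtain ⟨ρ, hρ⟩ := h1
  rw [map_one, one_smul] at hρ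
  refine ⟨fun a b => ?_⟩
  have key : ∀ x : T2 P M, x = 0 := by
    intro x
    obtain ⟨φ, rfl⟩ := Submodule.Quotient.mk_surjective _ x
    rw [Submodule.Quotient.mk_eq_zero]
    refine ⟨φ ∘ₗ ρ, ?_⟩
    rw [d2Star_apply, LinearMap.comp_assoc, hρ, LinearMap.comp_id]
  rw [key a, key b]

end Groth.Agent.H61.Obs
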