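import Groth.Agent.H61.Obs.Main
import Groth.Agent.H61.Obs.LCIT2
import Groth.Agent.H63.ArtFunctor

set_option linter.style.haveILetI false
set_option linter.unusedSectionVars false
set_option autoImplicit false

/-!
# Deformations of local complete intersections are unobstructed
-/

open AlgebraicGeometry CategoryTheory CategoryTheory.Limits

namespace Groth.Agent.H61.Obs

universe u

open ArtFun ArtFun.Art Groth.Agent.H61.DefAlg CotT MvPolynomial

variable {k : Type u} [Field k] {A₀ : Type u} [CommRing A₀] [Algebra k A₀]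

/-- a finite presentation with prescribed surjection from a polynomial ring. -/
theorem exists_presentation_of_surjective {n : ℕ} (f : MvPolynomial (Fin n) k →ₐ[k] A₀)
    (hf : Function.Surjective f) :
    ∃ (σ : Type u) (_ : Finite σ) (P : Algebra.Presentation k A₀ (Fin n) σ),
      P.toExtension.ker = RingHom.ker f.toRingHom := by
  classical
  have hfa : f = aeval (fun i => f (X i)) := MvPolynomial.aeval_unique f
  let G : Algebra.Generators k A₀ (Fin n) :=
    Algebra.Generators.ofSurjective (fun i => f (X i)) (fun a => by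
      obtain ⟨p, rfl⟩ := hf a
      exact ⟨p, by rw [← hfa]⟩)
  have hker : G.ker = RingHom.ker f.toRingHom := by
    rw [Algebra.Generators.ker_eq_ker_aeval_val]
    ext x
    rw [RingHom.mem_ker, RingHom.mem_ker]
    change aeval (fun i => f (X i)) x = 0 ↔ f x = 0
    rw [← hfa]
  obtain ⟨T, hT⟩ : (G.ker : Ideal (MvPolynomial (Fin n) k)).FG :=
    (isNoetherianRing_iff_ideal_fg (MvPolynomial (Fin n) k)).1 inferInstance _
  let P : Algebra.Presentation k A₀ (Fin n) ↥T :=
    { G with
      relation := fun s => (s : MvPolynomial (Fin n) k)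
      span_range_relation_eq_ker := by
        rw [← hT]
        congr 1
        exact Subtype.range_coe_subtype }
  exact ⟨↥T, inferInstance, P, hker⟩

/-- `T²` of a local complete intersection vanishes. -/
theorem exists_presentation_T2_of_isLCI (hA : LCI.IsLCI k A₀) :
    ∃ (n : ℕ) (σ : Type u) (P : Algebra.Presentation k A₀ (Fin n) σ),
      Subsingleton (T2 P A₀) := by
  obtain ⟨-, n, f, hf, hK⟩ := hA
  obtain ⟨σ, hσ, P, hP⟩ := exists_presentation_of_surjective f hf
  haveI : IsNoetherianRing P.toExtension.Ring :=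
    inferInstanceAs (IsNoetherianRing (MvPolynomial (Fin n) k))
  have hK' : LCI.IsKoszulRegularIdeal P.toExtension.ker := by
    rw [hP]
    exact hK
  exact ⟨n, σ, P, subsingleton_T2_of_isKoszulRegularIdeal P hK' A₀⟩

variable {Λ : Type u} [CommRing Λ] [Algebra Λ k]

/-- **Unobstructedness for vanishing `T²`.** -/
theorem isSmoothFunctor_of_T2 {ι σ : Type*} (Q : Algebra.Presentation k A₀ ι σ)
    (hT2 : Subsingleton (T2 Q A₀)) :
    IsSmoothFunctor (defFunctor (Λ := Λ) (XB k A₀) (xB k A₀)) := by
  intro B A μ hμ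
  refine Groth.Agent.H63.surjective_induction
    (fun A B μ => Function.Surjective ((defFunctor (Λ := Λ) (XB k A₀) (xB k A₀)).map μ))
    ?_ (fun A B p hp => surjective_map_of_T2 Q hT2 hp) ?_ μ hμ
  · intro A B e he y
    refine ⟨(defFunctor (Λ := Λ) (XB k A₀) (xB k A₀)).map (inv e) y, ?_⟩
    rw [← Groth.Agent.H63.map_comp_apply, IsIso.inv_hom_id, Groth.Agent.H63.map_id_apply]
  · intro A B C p q hp hq y
    obtain ⟨z, hz⟩ := hq y
    obtain ⟨z', hz'⟩ := hp z
    exact ⟨z', by rw [Groth.Agent.H63.map_comp_apply, hz', hz]⟩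

/-- **Deformations of local complete intersections are unobstructed.** -/
theorem isSmoothFunctor_of_isLCI (hA : LCI.IsLCI k A₀) :
    IsSmoothFunctor (defFunctor (Λ := Λ) (XB k A₀) (xB k A₀)) := by
  obtain ⟨n, σ, P, hT2⟩ := exists_presentation_T2_of_isLCI hA
  exact isSmoothFunctor_of_T2 P hT2

end Groth.Agent.H61.Obs
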