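import Groth.Agent.H61.Obs.Correct
import Groth.Agent.H61.Obs.FlatLift

set_option linter.style.haveILetI false
set_option linter.unusedSectionVars false
set_option autoImplicit false

/-!
# Lifting a flat algebra along a small extension when `T² = 0`
-/

namespace Groth.Agent.H61.Obs

universe u

open ArtFun ArtFun.Art TensorProduct CategoryTheory CotT

variable {Λ : Type u} {k : Type u} [CommRing Λ] [Field k] [Algebra Λ k] {C' C : Art Λ k}
  {p : C' ⟶ C}
  {B : Type u} [CommRing B] [Algebra C B] [Algebra C' B]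
  {B₀ : Type u} [CommRing B₀] [Algebra k B₀] {π : B →+* B₀}

namespace Setup

variable (S : Setup p π) {t : C'} (ht : RingHom.ker p.toAlgHom = Ideal.span {t}) (ht0 : t ≠ 0)
include S

/-- elements with `τ = 0` are in `m' R' + I'`. -/
lemma exists_of_tau_eq_zero (G : (P' C' B).toExtension.Ring)
    (hG : π (algebraMap (P' C' B).toExtension.Ring B G) = 0) :
    ∃ κ ∈ (IsLocalRing.maximalIdeal C').map (cst C' B), G - κ ∈ (P' C' B).toExtension.ker := by
  have h1 : algebraMap (P' C' B).toExtension.Ring B G ∈ RingHom.ker π := hG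
  rw [S.ker_π_eq_map, Ideal.mem_map_iff_of_surjective _
    (P' C' B).toExtension.algebraMap_surjective] at h1
  obtain ⟨κ, hκ, hκG⟩ := h1
  rw [ker_red] at hκ
  refine ⟨κ, hκ, ?_⟩
  change algebraMap (P' C' B).toExtension.Ring B (G - κ) = 0
  rw [map_sub, hκG, sub_self]

include ht ht0 in
/-- **Lifting theorem (algebra).** -/
theorem exists_flat_lift (hT2 : Subsingleton (T2 (P₀ k π S.hπ) B₀)) :
    ∃ (E : Type u) (_ : CommRing E) (_ : Algebra C' E) (_ : Module.Flat C' E) (q : E →ₐ[C'] B),
      Function.Surjective q ∧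
      RingHom.ker (π.comp (q : E →+* B)) =
        (IsLocalRing.maximalIdeal C').map (algebraMap C' E) := by
  obtain ⟨I'', h1, h2, h3, h4⟩ := S.exists_ideal ht ht0 hT2
  have htker : t ∈ RingHom.ker p.toAlgHom := by rw [ht]; exact Ideal.mem_span_singleton_self t
  have htm : t ∈ IsLocalRing.maximalIdeal C' := S.ker_le_maximalIdeal htker
  let E := (P' C' B).toExtension.Ring ⧸ I''
  let mk : (P' C' B).toExtension.Ring →+* E := Ideal.Quotient.mk I''
  have hmk : Function.Surjective mk := Ideal.Quotient.mk_surjective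
  have halg : ∀ c : C', algebraMap C' E c = mk (cst C' B c) := fun c => rfl
  let q : E →ₐ[C'] B := Ideal.Quotient.liftₐ I''
    (IsScalarTower.toAlgHom C' (P' C' B).toExtension.Ring B) (fun a ha => h1 ha)
  have hq : ∀ G, q (mk G) = algebraMap (P' C' B).toExtension.Ring B G := fun G => rfl
  have hqsurj : Function.Surjective q := by
    intro b
    obtain ⟨G, rfl⟩ := (P' C' B).toExtension.algebraMap_surjective b
    exact ⟨mk G, hq G⟩
  -- decomposition of elements of `I'`
  have hdec : ∀ G ∈ (P' C' B).toExtension.ker, ∃ w, mk G = t • mk w := by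
    intro G hG
    have h5 := h2 hG
    rw [Submodule.mem_sup] at h5
    obtain ⟨i, hi, z, hz, hsum⟩ := h5
    rw [Ideal.mem_span_singleton'] at hz
    obtain ⟨w, rfl⟩ := hz
    refine ⟨w, ?_⟩
    rw [← hsum, map_add, Ideal.Quotient.eq_zero_iff_mem.mpr hi, zero_add, map_mul, mul_comm,
      Algebra.smul_def, halg]
  -- elements of `m' R'` go to `m' E`
  have hK : ∀ κ ∈ (IsLocalRing.maximalIdeal C').map (cst C' B),
      mk κ ∈ (IsLocalRing.maximalIdeal C').map (algebraMap C' E) := by
    intro κ hκ
    have h5 : mk κ ∈ ((IsLocalRing.maximalIdeal C').map (cst C' B)).map mk :=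
      Ideal.mem_map_of_mem _ hκ
    rw [Ideal.map_map] at h5
    exact h5
  have hsmul : ∀ z ∈ (IsLocalRing.maximalIdeal C').map (algebraMap C' E),
      z ∈ (IsLocalRing.maximalIdeal C') • (⊤ : Submodule C' E) := by
    intro z hz
    change z ∈ Submodule.span _ _ at hz
    rw [Submodule.mem_span_set'] at hz
    obtain ⟨n, f, g, rfl⟩ := hz
    refine Submodule.sum_mem _ fun i _ => ?_
    obtain ⟨a, ha, hag⟩ := (g i).2
    rw [← hag, smul_eq_mul, mul_comm, ← Algebra.smul_def]
    exact Submodule.smul_mem_smul ha Submodule.mem_top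
  have hτ : ∀ G, π (algebraMap (P' C' B).toExtension.Ring B G) = 0 →
      mk G ∈ (IsLocalRing.maximalIdeal C').map (algebraMap C' E) := by
    intro G hG
    obtain ⟨κ, hκ, hGκ⟩ := S.exists_of_tau_eq_zero G hG
    obtain ⟨w, hw⟩ := hdec _ hGκ
    have h5 : mk G = mk κ + t • mk w := by
      rw [← hw, ← map_add]
      congr 1
      ring
    rw [h5, Algebra.smul_def]
    exact Ideal.add_mem _ (hK κ hκ)
      (Ideal.mul_mem_right _ _ (Ideal.mem_map_of_mem _ htm))
  have hflat : Module.Flat C' E := by
    haveI := S.flat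
    refine flat_of_small (p := (p.toAlgHom : C' →+* C)) S.hp.1 ht (IsLocalRing.maximalIdeal C')
      (fun a ha => S.mul_eq_zero_of_mem ha htker) htm ?_ q.toLinearMap hqsurj ?_ ?_
    · intro c b
      rw [Algebra.smul_def, Algebra.smul_def, S.hB]
      rfl
    · intro e he
      obtain ⟨G, rfl⟩ := hmk e
      obtain ⟨w, hw⟩ := hdec G he
      exact ⟨mk w, hw⟩
    · intro e he
      obtain ⟨G, rfl⟩ := hmk e
      apply hsmul
      apply hτ
      apply h4
      rw [← Ideal.Quotient.eq_zero_iff_mem]
      change mk (cst C' B t * G) = 0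
      rw [map_mul, ← halg, ← Algebra.smul_def]
      exact he
  refine ⟨E, inferInstance, inferInstance, hflat, q, hqsurj, ?_⟩
  apply le_antisymm
  · intro e he
    obtain ⟨G, rfl⟩ := hmk e
    exact hτ G he
  · rw [Ideal.map_le_iff_le_comap]
    intro c hc
    rw [Ideal.mem_comap, RingHom.mem_ker]
    change π (q (algebraMap C' E c)) = 0
    rw [AlgHom.commutes]
    exact S.π_algebraMap_of_mem hc

end Setup

end Groth.Agent.H61.Obs
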