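import Groth.Agent.H61.LS.LocalRel
import Groth.Agent.H61.LS.CIT2

set_option linter.style.haveILetI false
set_option linter.unusedSectionVars false
set_option autoImplicit false

/-!
# A retraction of `d₂` after localization descends up to a multiplier
-/

open TensorProduct

namespace Groth.Agent.H61.Obs

open CotT Groth.Agent.H61.LS

universe u v w t u' v' w'

variable {A : Type u} {B : Type v} {ι : Type w} {σ : Type t}
variable [CommRing A] [CommRing B] [Algebra A B]
variable {A' : Type u'} {B' : Type v'} {ι' : Type w'}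
variable [CommRing A'] [CommRing B'] [Algebra A' B']
variable (P : Algebra.Presentation A B ι σ) (P' : Algebra.Presentation A' B' ι' σ)
variable (ψ : P.toExtension.Ring →+* P'.toExtension.Ring) (hrel : ∀ s, rel P' s = ψ (rel P s))
variable (S : Submonoid P.toExtension.Ring)
variable (h1 : ∀ r'' : P'.toExtension.Ring, ∃ r : P.toExtension.Ring, ∃ w ∈ S, ψ w * r'' = ψ r)
variable (h2 : ∀ x : P.toExtension.Ring, ψ x = 0 → ∃ v ∈ S, v * x = 0)

/-- expansion of `1 ⊗ x` in the basis of `L₁`. -/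
lemma one_tmul_eq_sum [Fintype σ] (x : relMod P) :
    ((1 : B) ⊗ₜ[P.toExtension.Ring] x : L1 P) =
      ∑ s, algebraMap P.toExtension.Ring B (x s) •
        ((1 : B) ⊗ₜ[P.toExtension.Ring] (Finsupp.single s 1 : relMod P) : L1 P) := by
  classical
  conv_lhs => rw [← Finsupp.univ_sum_single x]
  rw [TensorProduct.tmul_sum]
  refine Finset.sum_congr rfl fun s _ => ?_
  have h2 : (Finsupp.single s (x s) : relMod P) = (x s) • (Finsupp.single s 1 : relMod P) := by
    rw [Finsupp.smul_single, smul_eq_mul, mul_one]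
  rw [h2, TensorProduct.tmul_smul, TensorProduct.smul_tmul', TensorProduct.smul_tmul',
    Algebra.smul_def, mul_one, smul_eq_mul, mul_one]

lemma oneT_sum {α : Type*} (t : Finset α) (f : α → relKer P) :
    oneT P (∑ a ∈ t, f a) = ∑ a ∈ t, oneT P (f a) := map_sum (oneT P) f t

include hrel h1 h2 in
/-- relations of the localized presentation lift, up to a multiplier. -/
lemma exists_relKer_lift (q' : relKer P') :
    ∃ q : relKer P, ∃ w ∈ S, coeffMap ψ (q : relMod P) = ψ w • (q' : relMod P') := by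
  obtain ⟨a, w, hw, ha⟩ := exists_coeffMap_eq ψ S h1 (q' : relMod P')
  have h3 : ψ (jmap P a) = 0 := by
    rw [← jmap_coeffMap P P' ψ hrel, ha, map_smul]
    have : jmap P' (q' : relMod P') = 0 := q'.2
    rw [this, smul_zero]
  obtain ⟨v, hv, hva⟩ := h2 _ h3
  refine ⟨⟨v • a, ?_⟩, v * w, S.mul_mem hv hw, ?_⟩
  · change jmap P (v • a) = 0
    rw [map_smul, smul_eq_mul, hva]
  · change coeffMap ψ (v • a) = _
    rw [LinearMap.map_smulₛₗ, ha, smul_smul, map_mul]

include hrel h1 h2 in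
/-- two relation vectors whose images differ by a trivial relation differ by a trivial relation up to a
multiplier. -/
lemma exists_smul_sub_mem_trivRel (x y : relMod P)
    (hxy : coeffMap ψ x - coeffMap ψ y ∈ trivRel P') : ∃ u ∈ S, u • (x - y) ∈ trivRel P := by
  have h3 : coeffMap ψ (x - y) ∈ trivRel P' := by rw [map_sub]; exact hxy
  obtain ⟨t, ht, u₁, hu₁, htu⟩ := exists_trivRel_lift P P' ψ hrel S h1 _ h3
  have h4 : coeffMap ψ (t - u₁ • (x - y)) = 0 := by
    rw [map_sub, LinearMap.map_smulₛₗ, htu, sub_self]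
  obtain ⟨v, hv, hvz⟩ := exists_smul_eq_zero ψ S h2 _ h4
  refine ⟨v * u₁, S.mul_mem hv hu₁, ?_⟩
  have h5 : (v * u₁) • (x - y) = v • t := by
    rw [smul_sub, smul_sub] at hvz
    rw [mul_smul, smul_sub]
    exact (sub_eq_zero.mp hvz).symm
  rw [h5]
  exact Submodule.smul_mem _ _ ht

/-- values of a linear map on `1 ⊗ x`. -/
lemma map_one_tmul [Fintype σ] {N : Type*} [AddCommGroup N] [Module B N] (ρ : L1 P →ₗ[B] N)
    (x : relMod P) :
    ρ ((1 : B) ⊗ₜ[P.toExtension.Ring] x) =
      ∑ s, algebraMap P.toExtension.Ring B (x s) •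
        ρ ((1 : B) ⊗ₜ[P.toExtension.Ring] (Finsupp.single s 1 : relMod P)) := by
  rw [one_tmul_eq_sum, map_sum]
  refine Finset.sum_congr rfl fun s _ => ?_
  rw [map_smul]

lemma oneT_sum_smul [Fintype σ] (r : σ → P.toExtension.Ring) (Q : σ → relKer P) :
    oneT P (∑ s, r s • Q s) = ∑ s, algebraMap P.toExtension.Ring B (r s) • oneT P (Q s) := by
  rw [oneT_sum]
  refine Finset.sum_congr rfl fun s _ => ?_
  rw [oneT_smul]

lemma coe_sum_smul [Fintype σ] (r : σ → P.toExtension.Ring) (Q : σ → relKer P) :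
    ((∑ s, r s • Q s : relKer P) : relMod P) = ∑ s, r s • (Q s : relMod P) := by
  rw [Submodule.coe_sum]
  rfl

include hrel h1 h2 in
/-- uniform lifting of finitely many relations. -/
lemma exists_uniform_lift [Fintype σ] (q' : σ → relKer P') :
    ∃ w ∈ S, ∃ Q : σ → relKer P,
      ∀ s, coeffMap ψ ((Q s : relKer P) : relMod P) = ψ w • ((q' s : relKer P') : relMod P') := by
  classical
  choose q₀ w₀ hw₀ hq₀ using fun s : σ => exists_relKer_lift P P' ψ hrel S h1 h2 (q' s)
  let c : σ → P.toExtension.Ring := fun s => ∏ s' ∈ Finset.univ.erase s, w₀ s'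
  have hwc : ∀ s, (∏ s, w₀ s) = w₀ s * c s := fun s =>
    (Finset.mul_prod_erase Finset.univ w₀ (Finset.mem_univ s)).symm
  refine ⟨∏ s, w₀ s, S.prod_mem fun s _ => hw₀ s, fun s => c s • q₀ s, fun s => ?_⟩
  change coeffMap ψ (c s • (q₀ s : relMod P)) = _
  rw [LinearMap.map_smulₛₗ, hq₀, smul_smul, ← map_mul, hwc s, mul_comm]

include hrel h1 h2 in
/-- the pointwise comparison. -/
lemma exists_smul_retr_eq [Fintype σ] (ρ' : L1 P' →ₗ[B'] L2 P') (hρ' : ∀ x, ρ' (d2 P' x) = x)
    (q' : σ → relKer P')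
    (hq' : ∀ s, oneT P' (q' s) =
      ρ' ((1 : B') ⊗ₜ[P'.toExtension.Ring] (Finsupp.single s 1 : relMod P')))
    (w : P.toExtension.Ring) (Q : σ → relKer P)
    (hQ : ∀ s, coeffMap ψ ((Q s : relKer P) : relMod P) = ψ w • ((q' s : relKer P') : relMod P'))
    (ρ : L1 P →ₗ[B] L2 P)
    (hρ : ∀ s, ρ ((1 : B) ⊗ₜ[P.toExtension.Ring] (Finsupp.single s 1 : relMod P)) = oneT P (Q s))
    (q : relKer P) :
    ∃ u ∈ S, algebraMap P.toExtension.Ring B u •
      (ρ (d2 P (oneT P q)) - algebraMap P.toExtension.Ring B w • oneT P q) = 0 := by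
  obtain ⟨qt, hqt⟩ : ∃ qt : relKer P, qt = ∑ s, (q : relMod P) s • Q s := ⟨_, rfl⟩
  have e1 : ρ (d2 P (oneT P q)) = oneT P qt := by
    rw [d2_oneT, map_one_tmul, hqt, oneT_sum_smul]
    refine Finset.sum_congr rfl fun s _ => ?_
    rw [hρ]
  obtain ⟨qt', hqt'⟩ : ∃ qt' : relKer P', qt' = ∑ s, ψ ((q : relMod P) s) • q' s := ⟨_, rfl⟩
  have hqc : coeffMap ψ (q : relMod P) ∈ relKer P' := by
    change jmap P' (coeffMap ψ (q : relMod P)) = 0
    rw [jmap_coeffMap P P' ψ hrel]
    have : jmap P (q : relMod P) = 0 := q.2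
    rw [this, map_zero]
  have e2 : oneT P' qt' = oneT P' ⟨coeffMap ψ (q : relMod P), hqc⟩ := by
    have h3 : oneT P' ⟨coeffMap ψ (q : relMod P), hqc⟩ =
        ρ' (d2 P' (oneT P' ⟨coeffMap ψ (q : relMod P), hqc⟩)) := (hρ' _).symm
    rw [h3, d2_oneT, map_one_tmul, hqt', oneT_sum_smul]
    refine Finset.sum_congr rfl fun s _ => ?_
    rw [hq' s]
    congr 2
    exact (coeffMap_apply ψ _ s).symm
  have e3 : ((qt' : relKer P') : relMod P') - coeffMap ψ (q : relMod P) ∈ trivRel P' := by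
    have h3 : oneT P' (qt' - ⟨coeffMap ψ (q : relMod P), hqc⟩) = 0 := by
      rw [(oneT P').map_sub, e2, sub_self]
    exact (oneT_eq_zero_iff P' _).1 h3
  have e4 : coeffMap ψ ((qt : relKer P) : relMod P) = ψ w • ((qt' : relKer P') : relMod P') := by
    rw [hqt, hqt', coe_sum_smul, coe_sum_smul, map_sum, Finset.smul_sum]
    refine Finset.sum_congr rfl fun s _ => ?_
    rw [LinearMap.map_smulₛₗ, hQ, smul_smul, smul_smul, mul_comm]
  have e5 : coeffMap ψ ((qt : relKer P) : relMod P) - coeffMap ψ (w • (q : relMod P)) ∈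
      trivRel P' := by
    rw [e4, LinearMap.map_smulₛₗ, ← smul_sub]
    exact Submodule.smul_mem _ _ e3
  obtain ⟨u, hu, hmem⟩ := exists_smul_sub_mem_trivRel P P' ψ hrel S h1 h2 _ _ e5
  refine ⟨u, hu, ?_⟩
  have h6 : oneT P (u • (qt - w • q)) = 0 := (oneT_eq_zero_iff P _).2 hmem
  rw [oneT_smul, (oneT P).map_sub, oneT_smul] at h6
  rw [e1]
  exact h6

include hrel h1 h2 in
/-- **Local retraction.** If `T²` of the localized presentation vanishes and `L₂` is finitely
generated, `d₂` has a retraction up to an element of `S`. -/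
theorem exists_retraction_smul [Finite σ] (hT : Subsingleton (T2 P' (L2 P')))
    (hfg : (⊤ : Submodule B (L2 P)).FG) :
    ∃ u ∈ S, ∃ ρ : L1 P →ₗ[B] L2 P,
      ρ ∘ₗ d2 P = algebraMap P.toExtension.Ring B u • LinearMap.id := by
  classical
  haveI : Fintype σ := Fintype.ofFinite σ
  obtain ⟨ρ', hρ'⟩ := exists_retraction_of_subsingleton_T2 P' hT
  have hρ'app : ∀ x, ρ' (d2 P' x) = x := fun x => LinearMap.congr_fun hρ' x
  choose q' hq' using fun s : σ =>
    oneT_surjective P' (ρ' ((1 : B') ⊗ₜ[P'.toExtension.Ring] (Finsupp.single s 1 : relMod P')))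
  obtain ⟨w, hwS, Q, hQ⟩ := exists_uniform_lift P P' ψ hrel S h1 h2 q'
  obtain ⟨ρ, hρ⟩ : ∃ ρ : L1 P →ₗ[B] L2 P,
      ∀ s, ρ ((1 : B) ⊗ₜ[P.toExtension.Ring] (Finsupp.single s 1 : relMod P)) = oneT P (Q s) := by
    refine ⟨(L1basis P).constr B (fun s => oneT P (Q s)), fun s => ?_⟩
    rw [← L1basis_apply]
    exact Module.Basis.constr_basis _ _ _ _
  have key := exists_smul_retr_eq P P' ψ hrel S h1 h2 ρ' hρ'app q' hq' w Q hQ ρ hρ
  choose uu huu hkey using key
  obtain ⟨G, hG⟩ := hfg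
  choose qq hqq using fun x : L2 P => oneT_surjective P x
  let U : P.toExtension.Ring := ∏ x ∈ G, uu (qq x)
  have hU : U ∈ S := S.prod_mem fun x _ => huu _
  let D : L2 P →ₗ[B] L2 P := ρ ∘ₗ d2 P - algebraMap P.toExtension.Ring B w • LinearMap.id
  have hD : ∀ x ∈ G, (algebraMap P.toExtension.Ring B U • D) x = 0 := by
    intro x hx
    have h3 := hkey (qq x)
    rw [hqq x] at h3
    have h4 : U = (∏ y ∈ G.erase x, uu (qq y)) * uu (qq x) := by
      rw [mul_comm]
      exact (Finset.mul_prod_erase G (fun y => uu (qq y)) hx).symm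
    change algebraMap P.toExtension.Ring B U • (ρ (d2 P x) - algebraMap P.toExtension.Ring B w • x) = 0
    rw [h4, map_mul, mul_smul, h3, smul_zero]
  have hD0 : algebraMap P.toExtension.Ring B U • D = 0 := by
    apply LinearMap.ext_on_range (v := fun x : G => (x : L2 P))
    · rw [Subtype.range_coe_subtype]
      exact hG
    · intro x
      rw [hD x.1 x.2]
      rfl
  refine ⟨U * w, S.mul_mem hU hwS, algebraMap P.toExtension.Ring B U • ρ, ?_⟩
  have h7 : algebraMap P.toExtension.Ring B U • D =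
      (algebraMap P.toExtension.Ring B U • ρ) ∘ₗ d2 P -
        algebraMap P.toExtension.Ring B (U * w) • LinearMap.id := by
    change _ • (ρ ∘ₗ d2 P - _ • LinearMap.id) = _
    rw [smul_sub, smul_smul, ← map_mul, LinearMap.smul_comp]
  rw [h7, sub_eq_zero] at hD0
  exact hD0

end Groth.Agent.H61.Obs
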