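import Groth.Agent.H61.Obs.GR
import Groth.Agent.H61.AffLift.SchBuild

set_option linter.style.haveILetI false
set_option linter.unusedSectionVars false
set_option autoImplicit false

/-!
# From a flat lifting of the coordinate ring to a lifting of the deformation (general `Λ`)
-/

open AlgebraicGeometry CategoryTheory CategoryTheory.Limits Opposite TopologicalSpace

namespace Groth.Agent.H61.Obs

universe u

open ArtFun ArtFun.Art Groth.Agent.H61.AffThick Groth.Agent.H61.DefAlg Groth.Agent.H61.AffLift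

variable {Λ : Type u} {k : Type u} [CommRing Λ] [Field k] [Algebra Λ k]
  {B₀ : Type u} [CommRing B₀] [Algebra k B₀] {C' C : Art Λ k}

theorem exists_defSch_lift (p : C' ⟶ C) (𝒳 : DefSch (XB k B₀) (xB k B₀) C)
    {E : Type u} [CommRing E] (φ' : C' →+* E) (hφ : φ'.Flat) (q : E →+* GR 𝒳)
    (hqφ : ∀ c, q (φ' c) = algebraMap C (GR 𝒳) (p.toAlgHom c))
    (hq : Function.Surjective q)
    (hker : RingHom.ker ((πL 𝒳).comp q) = (IsLocalRing.maximalIdeal C').map φ') :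
    ∃ 𝒳' : DefSch (XB k B₀) (xB k B₀) C', Nonempty ((𝒳'.baseChange p).Iso 𝒳) := by
  let π' : E →+* B₀ := (πL 𝒳).comp q
  have hπ : Function.Surjective π' := (πL_surjective 𝒳).comp hq
  have hcomp : ∀ c, π' (φ' c) = algebraMap k B₀ (C'.res c) := by
    intro c
    change πL 𝒳 (q (φ' c)) = _
    rw [hqφ, πL_algebraMap]
    congr 1
    exact res_app p c
  let 𝒳' : DefSch (XB k B₀) (xB k B₀) C' := build φ' π' hφ hπ hcomp hker
  let projC : CommRingCat.of E ⟶ Γ(𝒳.total, ⊤) := CommRingCat.ofHom q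
  let j₀ : 𝒳.total ⟶ 𝒳'.total := 𝒳.total.toSpecΓ ≫ Spec.map projC
  have cond : j₀ ≫ 𝒳'.f = 𝒳.f ≫ specMap p := by
    have h1 : CommRingCat.ofHom φ' ≫ projC =
        CommRingCat.ofHom p.toAlgHom.toRingHom ≫ (Scheme.ΓSpecIso (CommRingCat.of C)).inv ≫
          𝒳.f.appTop := by
      ext c
      exact hqφ c
    change (𝒳.total.toSpecΓ ≫ Spec.map projC) ≫ Spec.map (CommRingCat.ofHom φ') =
      𝒳.f ≫ Spec.map (CommRingCat.ofHom p.toAlgHom.toRingHom)
    conv_rhs => rw [eq_toSpecΓ_SpecMap 𝒳.f]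
    rw [Category.assoc, Category.assoc, ← Spec.map_comp, ← Spec.map_comp, h1]
  let u : 𝒳.total ⟶ pullback 𝒳'.f (specMap p) := pullback.lift j₀ 𝒳.f cond
  have hu_fst : u ≫ pullback.fst 𝒳'.f (specMap p) = j₀ := pullback.lift_fst _ _ _
  have hu_f : u ≫ (𝒳'.baseChange p).f = 𝒳.f := pullback.lift_snd _ _ _
  have hij : 𝒳.i ≫ j₀ = 𝒳'.i := by
    have h1 : projC ≫ 𝒳.i.appTop ≫ (Scheme.ΓSpecIso (CommRingCat.of B₀)).hom =
        CommRingCat.ofHom π' := by
      ext e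
      rfl
    change 𝒳.i ≫ 𝒳.total.toSpecΓ ≫ Spec.map projC = Spec.map (CommRingCat.ofHom π')
    rw [Scheme.toSpecΓ_naturality_assoc, ← h1, Spec.map_comp, Spec.map_comp, toSpecΓ_Spec,
      ← Spec.map_comp, ← Spec.map_comp, ← Spec.map_comp, ← Spec.map_comp]
    congr 1
  have hu_i : 𝒳.i ≫ u = (𝒳'.baseChange p).i := by
    apply pullback.hom_ext
    · rw [Category.assoc, hu_fst, hij]
      exact (DefSch.baseChange_i_fst 𝒳' p).symm
    · have h1 : (𝒳.i ≫ u) ≫ pullback.snd 𝒳'.f (specMap p) = 𝒳.i ≫ 𝒳.f := by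
        rw [Category.assoc]
        congr 1
      rw [h1, DefSch.i_f]
      exact (DefSch.baseChange_i_f 𝒳' p).symm
  haveI : IsIso u := DefSch.isIso_of_hom (ξ := 𝒳) (ξ' := 𝒳'.baseChange p) u hu_f hu_i
  let α₀ : 𝒳.Iso (𝒳'.baseChange p) := ⟨asIso u, hu_f, hu_i⟩
  exact ⟨𝒳', ⟨α₀.symm⟩⟩

end Groth.Agent.H61.Obs
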