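import Groth.Agent.H61.Obs.Lift
import Groth.Agent.H61.Obs.SchLift
import Groth.Agent.H61.LS.Invariance

set_option linter.style.haveILetI false
set_option linter.unusedSectionVars false
set_option autoImplicit false

/-!
# `T² = 0` implies that deformations of `Spec B₀` lift along small extensions (general `Λ`)
-/

open AlgebraicGeometry CategoryTheory CategoryTheory.Limits Opposite TopologicalSpace

namespace Groth.Agent.H61.Obs

universe u

open ArtFun ArtFun.Art Groth.Agent.H61.AffThick Groth.Agent.H61.DefAlg CotT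

variable {Λ : Type u} {k : Type u} [CommRing Λ] [Field k] [Algebra Λ k]
  {B₀ : Type u} [CommRing B₀] [Algebra k B₀] {C' C : Art Λ k}

/-- `T² = 0` does not depend on the presentation. -/
theorem subsingleton_T2_of_presentation {A : Type*} {B : Type*} [CommRing A] [CommRing B]
    [Algebra A B] {ι σ ι' σ' : Type*}
    (Q : Algebra.Presentation A B ι σ) (Q' : Algebra.Presentation A B ι' σ')
    (M : Type*) [AddCommGroup M] [Module B M] (h : Subsingleton (T2 Q M)) :
    Subsingleton (T2 Q' M) :=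
  (Groth.Agent.H61.LS.T2pull_bijective M (Groth.Agent.H61.LS.defaultPresHom Q Q')).1.subsingleton

/-- the coordinate ring of a deformation over `C`, regarded as a `C'`-algebra through `p`. -/
def BRL (_p : C' ⟶ C) (𝒳 : DefSch (XB k B₀) (xB k B₀) C) : Type u := GR 𝒳

variable (p : C' ⟶ C) (𝒳 : DefSch (XB k B₀) (xB k B₀) C)

instance : CommRing (BRL p 𝒳) := inferInstanceAs (CommRing (GR 𝒳))

noncomputable instance : Algebra C (BRL p 𝒳) := inferInstanceAs (Algebra C (GR 𝒳))

noncomputable instance : Algebra C' (BRL p 𝒳) :=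
  ((algebraMap C (GR 𝒳)).comp p.toAlgHom.toRingHom).toAlgebra

instance : Module.Flat C (BRL p 𝒳) := inferInstanceAs (Module.Flat C (GR 𝒳))

/-- the augmentation `B → B₀`. -/
noncomputable def πB : BRL p 𝒳 →+* B₀ := πL 𝒳

lemma map_maximalIdeal' (hp : Function.Surjective p) :
    (IsLocalRing.maximalIdeal C').map (p.toAlgHom : C' →+* C) = IsLocalRing.maximalIdeal C := by
  apply le_antisymm
  · rw [Ideal.map_le_iff_le_comap]
    intro c hc
    rw [Ideal.mem_comap, mem_maximalIdeal_iff]
    change C.res (p c) = 0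
    rw [res_app, (mem_maximalIdeal_iff C' c).mp hc]
  · intro c hc
    obtain ⟨c', rfl⟩ := hp c
    refine Ideal.mem_map_of_mem _ ?_
    rw [mem_maximalIdeal_iff] at hc ⊢
    rw [← hc]
    exact (res_app p c').symm

theorem setupL (hp : IsSemismallExt p) : Setup p (πB p 𝒳) where
  hp := hp
  hB := fun _ => rfl
  hπ := πL_surjective 𝒳
  hker := by
    have h1 : RingHom.ker (πB p 𝒳) =
        (IsLocalRing.maximalIdeal C).map (algebraMap C (GR 𝒳)) := ker_πL 𝒳
    rw [h1, ← map_maximalIdeal' p hp.1, Ideal.map_map]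
    rfl
  hcomp := fun c => by
    change πL 𝒳 (algebraMap C (GR 𝒳) (p.toAlgHom c)) = _
    rw [πL_algebraMap]
    congr 1
    exact res_app p c
  flat := inferInstance

variable {p}

/-- **Unobstructedness.** If `T²(B₀/k, B₀) = 0` (for some presentation), every deformation of
`Spec B₀` lifts along every small extension. -/
theorem exists_lift_of_T2 {ι σ : Type*} (Q : Algebra.Presentation k B₀ ι σ)
    (hT2 : Subsingleton (T2 Q B₀)) (hp : IsSmallExt p) :
    ∃ 𝒳' : DefSch (XB k B₀) (xB k B₀) C', Nonempty ((𝒳'.baseChange p).Iso 𝒳) := by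
  have S := setupL p 𝒳 hp.isSemismallExt
  obtain ⟨t, ht⟩ := hp.2.2.1.principal
  have ht' : RingHom.ker p.toAlgHom = Ideal.span {t} := ht
  have ht0 : t ≠ 0 := by
    rintro rfl
    apply hp.2.1
    rw [ht']
    exact Ideal.span_singleton_eq_bot.mpr rfl
  have hT2' : Subsingleton (T2 (P₀ k (πB p 𝒳) S.hπ) B₀) :=
    subsingleton_T2_of_presentation Q _ B₀ hT2
  obtain ⟨E, _, _, hflat, q, hq, hker⟩ := S.exists_flat_lift ht' ht0 hT2'
  exact exists_defSch_lift p 𝒳 (algebraMap C' E) ((RingHom.flat_algebraMap_iff).mpr hflat)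
    (q : E →+* BRL p 𝒳) (fun c => q.commutes c) hq hker

theorem surjective_map_of_T2 {ι σ : Type*} (Q : Algebra.Presentation k B₀ ι σ)
    (hT2 : Subsingleton (T2 Q B₀)) (hp : IsSmallExt p) :
    Function.Surjective ((defFunctor (Λ := Λ) (XB k B₀) (xB k B₀)).map p) := by
  intro y
  induction y using Quotient.inductionOn with
  | h 𝒳 =>
    obtain ⟨𝒳', ⟨e⟩⟩ := exists_lift_of_T2 𝒳 Q hT2 hp
    exact ⟨𝒳'.cl, Quotient.sound ⟨e⟩⟩

end Groth.Agent.H61.Obs
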