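import Mathlib
import Groth.Prelude.Def_ArtFun
import Groth.Prelude.Def_CotT
import Groth.Prelude.Def_Exal

set_option linter.style.haveILetI false
set_option linter.unusedSectionVars false
set_option autoImplicit false

/-!
# Liftings of a flat algebra along a semismall extension: presentations

Abstract setting: `p : C' ⟶ C` a semismall extension in `Art Λ k` with kernel `J`, `B` a flat
`C`-algebra (also a `C'`-algebra through `p`), `π : B → B₀` a surjection onto a `k`-algebra with
kernel `m_{C'} B`.  We compare the canonical presentation `R' = C'[x_b] → B` over `C'` with the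
presentation `R₀ = k[x_b] → B₀` over `k` (same variables), via the reduction `red : R' → R₀`.
-/

namespace Groth.Agent.H61.Obs

universe u

open ArtFun ArtFun.Art TensorProduct CategoryTheory

variable {Λ : Type u} {k : Type u} [CommRing Λ] [Field k] [Algebra Λ k] {C' C : Art Λ k} (p : C' ⟶ C)
  {B : Type u} [CommRing B] [Algebra C B] [Algebra C' B]
  {B₀ : Type u} [CommRing B₀] [Algebra k B₀] (π : B →+* B₀)

/-- the hypotheses of the abstract setting. -/
structure Setup : Prop where
  hp : IsSemismallExt p
  hB : ∀ c : C', algebraMap C' B c = algebraMap C B (p.toAlgHom c)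
  hπ : Function.Surjective π
  hker : RingHom.ker π = (IsLocalRing.maximalIdeal C').map (algebraMap C' B)
  hcomp : ∀ c : C', π (algebraMap C' B c) = algebraMap k B₀ (C'.res c)
  flat : Module.Flat C B

variable {p π}

namespace Setup

variable (S : Setup p π)
include S

lemma ker_le_maximalIdeal : RingHom.ker p.toAlgHom ≤ IsLocalRing.maximalIdeal C' := by
  intro j hj
  rw [mem_maximalIdeal_iff, ← res_app p, (RingHom.mem_ker).mp hj, map_zero]

lemma mul_eq_zero_of_mem {c j : C'} (hc : c ∈ IsLocalRing.maximalIdeal C')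
    (hj : j ∈ RingHom.ker p.toAlgHom) : c * j = 0 := by
  have h := Ideal.mul_mem_mul hc hj
  rw [S.hp.2] at h
  exact h

lemma algebraMap_eq_zero_of_mem {j : C'} (hj : j ∈ RingHom.ker p.toAlgHom) :
    algebraMap C' B j = 0 := by
  rw [S.hB, (RingHom.mem_ker).mp hj, map_zero]

lemma π_algebraMap_of_mem {c : C'} (hc : c ∈ IsLocalRing.maximalIdeal C') :
    π (algebraMap C' B c) = 0 := by
  rw [S.hcomp, (mem_maximalIdeal_iff C' c).mp hc, map_zero]

end Setup

section Pres

variable (C' B) in
/-- the canonical presentation of `B` over `C'`. -/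
noncomputable abbrev P' : Algebra.Presentation C' B B (CotT.CanonRels C' B) := CotT.canon C' B

variable (C' B) in
/-- constants of `R'`. -/
noncomputable def cst : C' →+* (P' C' B).toExtension.Ring :=
  (MvPolynomial.C : C' →+* MvPolynomial B C')

variable (C') in
/-- variables of `R'`. -/
noncomputable def var (b : B) : (P' C' B).toExtension.Ring :=
  (MvPolynomial.X b : MvPolynomial B C')

variable (k) (π)

/-- generators of `B₀` over `k` indexed by `B`. -/
noncomputable def gens₀ (hπ : Function.Surjective π) : Algebra.Generators k B₀ B :=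
  Algebra.Generators.ofSurjective (fun b => π b) (fun b₀ => by
    obtain ⟨b, rfl⟩ := hπ b₀
    exact ⟨MvPolynomial.X b, MvPolynomial.aeval_X _ b⟩)

/-- the presentation of `B₀` over `k` with variables indexed by `B` and all relations. -/
noncomputable def P₀ (hπ : Function.Surjective π) :
    Algebra.Presentation k B₀ B (gens₀ k π hπ).ker where
  __ := gens₀ k π hπ
  relation := Subtype.val
  span_range_relation_eq_ker := by
    refine le_antisymm (Ideal.span_le.mpr ?_) fun x hx => Ideal.subset_span ⟨⟨x, hx⟩, rfl⟩
    rintro _ ⟨r, rfl⟩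
    exact r.2

lemma P₀_val (hπ : Function.Surjective π) (b : B) : (P₀ k π hπ).val b = π b := rfl

/-- reduction of polynomials `C'[x_b] → k[x_b]`. -/
noncomputable def red (hπ : Function.Surjective π) :
    (P' C' B).toExtension.Ring →+* (P₀ k π hπ).toExtension.Ring :=
  (MvPolynomial.map (C'.res : C' →+* k) : MvPolynomial B C' →+* MvPolynomial B k)

lemma red_cst (hπ : Function.Surjective π) (c : C') :
    red k π hπ (cst C' B c) = (MvPolynomial.C (C'.res c) : MvPolynomial B k) :=
  MvPolynomial.map_C _ c

lemma red_var (hπ : Function.Surjective π) (b : B) :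
    red k π hπ (var C' b) = (MvPolynomial.X b : MvPolynomial B k) :=
  MvPolynomial.map_X _ b

lemma red_surjective (hπ : Function.Surjective π) : Function.Surjective (red (C' := C') k π hπ) :=
  MvPolynomial.map_surjective _ C'.res_surjective

lemma ker_red (hπ : Function.Surjective π) :
    RingHom.ker (red (C' := C') k π hπ) = (IsLocalRing.maximalIdeal C').map (cst C' B) := by
  have h1 : RingHom.ker (C'.res : C' →+* k) = IsLocalRing.maximalIdeal C' := by
    ext a
    rw [mem_maximalIdeal_iff]
    rfl
  rw [← h1]
  exact MvPolynomial.ker_map _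

omit [Algebra k B₀] in
/-- ring homs out of `R'` are determined by constants and variables. -/
lemma ringHom_ext' {T : Type*} [Semiring T] {f g : (P' C' B).toExtension.Ring →+* T}
    (hC : ∀ c, f (cst C' B c) = g (cst C' B c)) (hX : ∀ b, f (var C' b) = g (var C' b)) : f = g :=
  MvPolynomial.ringHom_ext hC hX

end Pres

namespace Setup

variable (S : Setup p π)
include S

lemma algebraMap_cst (c : C') :
    algebraMap (P' C' B).toExtension.Ring B (cst C' B c) = algebraMap C' B c := by
  rw [CotT.algebraMap_toExtension]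
  exact MvPolynomial.aeval_C _ c

lemma algebraMap_var (b : B) :
    algebraMap (P' C' B).toExtension.Ring B (var C' b) = b := by
  rw [CotT.algebraMap_toExtension]
  exact MvPolynomial.aeval_X _ b

lemma algebraMap_red (g : (P' C' B).toExtension.Ring) :
    algebraMap (P₀ k π S.hπ).toExtension.Ring B₀ (red k π S.hπ g) =
      π (algebraMap (P' C' B).toExtension.Ring B g) := by
  have h : (algebraMap (P₀ k π S.hπ).toExtension.Ring B₀).comp (red k π S.hπ) =
      π.comp (algebraMap (P' C' B).toExtension.Ring B) := by
    apply ringHom_ext'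
    · intro c
      change algebraMap (P₀ k π S.hπ).toExtension.Ring B₀ (red k π S.hπ (cst C' B c)) =
        π (algebraMap (P' C' B).toExtension.Ring B (cst C' B c))
      rw [red_cst, S.algebraMap_cst, CotT.algebraMap_toExtension]
      change MvPolynomial.aeval _ (MvPolynomial.C (C'.res c)) = _
      rw [MvPolynomial.aeval_C, S.hcomp]
    · intro b
      change algebraMap (P₀ k π S.hπ).toExtension.Ring B₀ (red k π S.hπ (var C' b)) =
        π (algebraMap (P' C' B).toExtension.Ring B (var C' b))
      rw [red_var, S.algebraMap_var, CotT.algebraMap_toExtension]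
      change MvPolynomial.aeval _ (MvPolynomial.X b) = _
      rw [MvPolynomial.aeval_X]
      rfl
  exact DFunLike.congr_fun h g

lemma ker_π_eq_map :
    RingHom.ker π = (RingHom.ker (red k π S.hπ)).map (algebraMap (P' C' B).toExtension.Ring B) := by
  have h : (algebraMap (P' C' B).toExtension.Ring B).comp (cst C' B) = algebraMap C' B :=
    RingHom.ext fun c => S.algebraMap_cst c
  rw [ker_red, Ideal.map_map, h, S.hker]

/-- every element of the kernel of `R₀ → B₀` lifts to the kernel of `R' → B`. -/
lemma exists_mem_ker_red_eq (g₀ : (P₀ k π S.hπ).toExtension.Ring)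
    (h : g₀ ∈ (P₀ k π S.hπ).toExtension.ker) :
    ∃ x ∈ (P' C' B).toExtension.ker, red k π S.hπ x = g₀ := by
  obtain ⟨g, rfl⟩ := red_surjective (C' := C') k π S.hπ g₀
  have h1 : algebraMap (P' C' B).toExtension.Ring B g ∈ RingHom.ker π := by
    rw [RingHom.mem_ker, ← S.algebraMap_red]
    exact h
  rw [S.ker_π_eq_map, Ideal.mem_map_iff_of_surjective _
    (P' C' B).toExtension.algebraMap_surjective] at h1
  obtain ⟨h', hh', hh''⟩ := h1
  refine ⟨g - h', ?_, ?_⟩
  · change algebraMap (P' C' B).toExtension.Ring B (g - h') = 0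
    rw [map_sub, hh'', sub_self]
  · rw [map_sub, (RingHom.mem_ker).mp hh', sub_zero]

/-- (α): an element of the kernel of `R' → B` which reduces to zero lies in `m' I' + J R'`. -/
theorem mem_of_red_eq_zero (x : (P' C' B).toExtension.Ring)
    (hx : x ∈ (P' C' B).toExtension.ker) (hred : red k π S.hπ x = 0) :
    x ∈ (IsLocalRing.maximalIdeal C').map (cst C' B) * (P' C' B).toExtension.ker ⊔
      (RingHom.ker p.toAlgHom).map (cst C' B) := by
  haveI := S.flat
  have h1 : x ∈ RingHom.ker (red k π S.hπ) := hred
  rw [ker_red] at h1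
  change x ∈ Submodule.span _ _ at h1
  rw [Submodule.mem_span_set'] at h1
  obtain ⟨n, f, g, hsum⟩ := h1
  choose c hc hcg using fun i => (g i).2
  have hB0 : ∑ i, p.toAlgHom (c i) • algebraMap (P' C' B).toExtension.Ring B (f i) = 0 := by
    have h2 : algebraMap (P' C' B).toExtension.Ring B x = 0 := hx
    rw [← hsum, map_sum] at h2
    rw [← h2]
    refine Finset.sum_congr rfl fun i _ => ?_
    rw [smul_eq_mul, map_mul, ← hcg i, S.algebraMap_cst, S.hB, Algebra.smul_def, mul_comm]
  obtain ⟨m, a, y, hxy', hfa'⟩ :=
    Module.Flat.isTrivialRelation_of_sum_smul_eq_zero (R := C) (M := B) hB0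
  have hxy : ∀ i, algebraMap (P' C' B).toExtension.Ring B (f i) = ∑ j, a i j • y j := hxy'
  have hfa : ∀ j, ∑ i, p.toAlgHom (c i) * a i j = 0 := hfa'
  choose a' ha' using fun i j => S.hp.1 (a i j)
  let h : Fin n → (P' C' B).toExtension.Ring := fun i =>
    f i - ∑ j, cst C' B (a' i j) * var C' (y j)
  have hh : ∀ i, h i ∈ (P' C' B).toExtension.ker := by
    intro i
    change algebraMap (P' C' B).toExtension.Ring B (f i - _) = 0
    rw [map_sub, map_sum, hxy i, sub_eq_zero]
    refine Finset.sum_congr rfl fun j _ => ?_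
    rw [map_mul, S.algebraMap_cst, S.algebraMap_var, S.hB, Algebra.smul_def]
    congr 2
    exact (ha' i j).symm
  have hxeq : x = ∑ i, cst C' B (c i) * h i +
      ∑ j, cst C' B (∑ i, c i * a' i j) * var C' (y j) := by
    rw [← hsum]
    have e1 : ∀ i, f i • ((g i : Set.image _ _) : (P' C' B).toExtension.Ring) =
        cst C' B (c i) * h i + ∑ j, cst C' B (c i * a' i j) * var C' (y j) := by
      intro i
      rw [← hcg i]
      change f i * cst C' B (c i) = cst C' B (c i) * (f i - _) + _
      rw [mul_sub, Finset.mul_sum, mul_comm]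
      rw [sub_add_eq_add_sub, eq_sub_iff_add_eq]
      congr 1
      refine Finset.sum_congr rfl fun j _ => ?_
      rw [map_mul, mul_assoc]
    rw [Finset.sum_congr rfl fun i _ => e1 i, Finset.sum_add_distrib]
    congr 1
    rw [Finset.sum_comm]
    refine Finset.sum_congr rfl fun j _ => ?_
    rw [map_sum, Finset.sum_mul]
  rw [hxeq]
  refine Submodule.add_mem_sup ?_ ?_
  · refine Ideal.sum_mem _ fun i _ => ?_
    exact Ideal.mul_mem_mul (Ideal.mem_map_of_mem _ (hc i)) (hh i)
  · refine Ideal.sum_mem _ fun j _ => ?_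
    refine Ideal.mul_mem_right _ _ (Ideal.mem_map_of_mem _ ?_)
    rw [RingHom.mem_ker, map_sum]
    rw [← hfa j]
    refine Finset.sum_congr rfl fun i _ => ?_
    rw [map_mul]
    congr 1
    exact ha' i j

lemma red_mem_ker (x : (P' C' B).toExtension.Ring) (hx : x ∈ (P' C' B).toExtension.ker) :
    red k π S.hπ x ∈ (P₀ k π S.hπ).toExtension.ker := by
  change algebraMap (P₀ k π S.hπ).toExtension.Ring B₀ (red k π S.hπ x) = 0
  have h2 : algebraMap (P' C' B).toExtension.Ring B x = 0 := hx
  rw [S.algebraMap_red, h2, map_zero]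

/-- reduction on kernels. -/
noncomputable def redK (x : (P' C' B).toExtension.ker) : (P₀ k π S.hπ).toExtension.ker :=
  ⟨red k π S.hπ (x : (P' C' B).toExtension.Ring),
    S.red_mem_ker (x : (P' C' B).toExtension.Ring) x.2⟩

lemma redK_coe (x : (P' C' B).toExtension.ker) :
    ((S.redK x : (P₀ k π S.hπ).toExtension.ker) : (P₀ k π S.hπ).toExtension.Ring) =
      red k π S.hπ (x : (P' C' B).toExtension.Ring) := rfl

lemma redK_add (x y : (P' C' B).toExtension.ker) : S.redK (x + y) = S.redK x + S.redK y := by
  apply Subtype.ext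
  change red k π S.hπ ((x : (P' C' B).toExtension.Ring) + (y : (P' C' B).toExtension.Ring)) = _
  rw [map_add]
  rfl

lemma redK_smul (r : (P' C' B).toExtension.Ring) (x : (P' C' B).toExtension.ker) :
    S.redK (r • x) = red k π S.hπ r • S.redK x := by
  apply Subtype.ext
  change red k π S.hπ (r * (x : (P' C' B).toExtension.Ring)) = _
  rw [map_mul]
  rfl

/-- the reduction map from the kernel of `R' → B` to the conormal module of `R₀ → B₀`. -/
noncomputable def κ (x : (P' C' B).toExtension.ker) : (P₀ k π S.hπ).toExtension.Cotangent :=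
  Algebra.Extension.Cotangent.mk (S.redK x)

lemma κ_add (x y : (P' C' B).toExtension.ker) : S.κ (x + y) = S.κ x + S.κ y := by
  unfold κ
  rw [S.redK_add, map_add]

lemma κ_smul (r : (P' C' B).toExtension.Ring) (x : (P' C' B).toExtension.ker) :
    S.κ (r • x) = π (algebraMap (P' C' B).toExtension.Ring B r) • S.κ x := by
  unfold κ
  rw [S.redK_smul, map_smul, ← S.algebraMap_red, algebraMap_smul]

lemma κ_surjective : Function.Surjective S.κ := by
  intro c
  obtain ⟨y, rfl⟩ := Algebra.Extension.Cotangent.mk_surjective c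
  obtain ⟨x, hx, hxy⟩ := S.exists_mem_ker_red_eq (y : (P₀ k π S.hπ).toExtension.Ring) y.2
  refine ⟨⟨x, hx⟩, ?_⟩
  unfold κ
  congr 1
  exact Subtype.ext hxy

/-- the ideal of `R'` on which every admissible difference vanishes. -/
noncomputable def KK (_S : Setup p π) : Ideal (P' C' B).toExtension.Ring :=
  (P' C' B).toExtension.ker * (P' C' B).toExtension.ker ⊔
    ((IsLocalRing.maximalIdeal C').map (cst C' B) * (P' C' B).toExtension.ker ⊔
      (RingHom.ker p.toAlgHom).map (cst C' B))

/-- (K): two elements of the kernel with the same image in the conormal module of `R₀ → B₀`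
differ by an element of `I'² + m' I' + J R'`. -/
theorem sub_mem_of_κ_eq (x y : (P' C' B).toExtension.ker) (h : S.κ x = S.κ y) :
    ((x : (P' C' B).toExtension.Ring) - (y : (P' C' B).toExtension.Ring)) ∈ S.KK := by
  unfold κ at h
  rw [Algebra.Extension.Cotangent.mk_eq_mk_iff_sub_mem, S.redK_coe, S.redK_coe, ← map_sub] at h
  -- `I₀ = red(I')`
  have hI : (P₀ k π S.hπ).toExtension.ker = ((P' C' B).toExtension.ker).map (red k π S.hπ) := by
    apply le_antisymm
    · intro g₀ hg₀
      obtain ⟨z, hz, rfl⟩ := S.exists_mem_ker_red_eq g₀ hg₀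
      exact Ideal.mem_map_of_mem _ hz
    · rw [Ideal.map_le_iff_le_comap]
      intro z hz
      exact S.red_mem_ker z hz
  rw [hI, ← Ideal.map_pow, Ideal.mem_map_iff_of_surjective _ (red_surjective k π S.hπ)] at h
  obtain ⟨w, hw, hwe⟩ := h
  have h1 : ((x : (P' C' B).toExtension.Ring) - (y : (P' C' B).toExtension.Ring)) - w ∈
      (P' C' B).toExtension.ker :=
    Ideal.sub_mem _ (Ideal.sub_mem _ x.2 y.2) (Ideal.pow_le_self two_ne_zero hw)
  have h2 := S.mem_of_red_eq_zero _ h1 (by rw [map_sub, hwe, sub_self])
  have h3 : ((x : (P' C' B).toExtension.Ring) - (y : (P' C' B).toExtension.Ring)) =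
      w + (((x : (P' C' B).toExtension.Ring) - (y : (P' C' B).toExtension.Ring)) - w) := by
    ring
  rw [h3]
  unfold KK
  rw [pow_two] at hw
  exact Submodule.add_mem_sup hw h2

end Setup

end Groth.Agent.H61.Obs
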